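import Mathlib
import Cfsg.Agent.Lib.M24E.Classes
import Cfsg.Agent.Lib.M24E.Tools
import Cfsg.Agent.Lib.Mathieu.Simple
import Cfsg.Agent.S2061
import Cfsg.Agent.S5620

/-!
The automorphism group of `M12` inside `M24`: involutions and centralizers.
-/

set_option autoImplicit false

namespace CfsgLib.QT3.K12

open Cfsg Subgroup CfsgLib.M24E CfsgLib.Golay
open scoped Pointwise

theorem mem12 {g : P24} : g ∈ Spor.M12 ↔ g ∈ M24 ∧ g • ofMask 340831 = ofMask 340831 := Mathieu.mem_M12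

/-- test: the packed permutation lies in `M12` -/
noncomputable def is12 (r : ℕ) : Bool := and (isM r) (setTo (ap r) 340831 340831)

theorem is12_spec {r : ℕ} (h : is12 r = true) : isM r = true ∧ pm r ∈ Spor.M12 := by
  rw [is12, Bool.and_eq_true] at h
  exact ⟨h.1, mem12.2 ⟨pm_mem h.1, ((pm_rp h.1).setFix_iff _).1 h.2⟩⟩

/-- the stabilizer of the dodecad pair -/
def NN : Subgroup P24 where
  carrier := {g | g ∈ M24 ∧ (g • ofMask 340831 = ofMask 340831 ∨ g • ofMask 340831 = (ofMask 340831)ᶜ)}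
  one_mem' := ⟨one_mem _, Or.inl (one_smul _ _)⟩
  mul_mem' := by
    rintro a b ⟨ha, h1 | h1⟩ ⟨hb, h2 | h2⟩ <;> refine ⟨mul_mem ha hb, ?_⟩ <;> simp [mul_smul, h1, h2, smul_compl']
  inv_mem' := by
    rintro a ⟨ha, h1 | h1⟩ <;> refine ⟨inv_mem ha, ?_⟩ <;> simp [inv_smul_eq_iff, h1, smul_compl']

theorem le_NN : Spor.M12 ≤ NN := fun _ h => ⟨(mem12.1 h).1, Or.inl (mem12.1 h).2⟩

theorem NN_le : NN ≤ normalizer (Spor.M12 : Set P24) := fun r hr => mem_normalizer_fintype fun g hg => by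
  refine mem12.2 ⟨mul_mem (mul_mem hr.1 (mem12.1 hg).1) (inv_mem hr.1), ?_⟩
  rw [mul_smul, mul_smul, ← eq_inv_smul_iff]
  rcases (inv_mem hr : r⁻¹ ∈ NN).2 with h | h <;> simp [h, smul_compl', (mem12.1 hg).2]

/-- conjugation -/
def cf : NN →* MulAut Spor.M12 := (normalizerMonoidHom Spor.M12).comp (inclusion NN_le)

theorem cf_apply (d : NN) (m : Spor.M12) : ((cf d m : Spor.M12) : P24) = d * m * (d : P24)⁻¹ := rfl

theorem cf_fix {d : NN} {m : Spor.M12} : cf d m = m ↔ (m : P24) * d = d * m := by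
  rw [Subtype.ext_iff, cf_apply, mul_inv_eq_iff_eq_mul, eq_comm]

theorem of_comm {v vi : ℕ} (hB : chkB v vi = true) {l : List ℕ} (hl : allL l isM = true) {Q : P24 → Prop}
    {good : (ℕ → ℕ) → Bool} (hgood : ∀ g, ∀ φ, Rp φ g → good φ = true → Q g)
    (h : asearch vi (okEach l fun q => okI (ap v) (ap q) (ap q))
      (fun φ => or (not (allL l fun q => intw φ (ap q) (ap q))) (good φ)) = true) :
    ∀ g ∈ M24, (∀ q ∈ l, g * pm q = pm q * g) → Q g := by
  have hr := fun q hq => pm_rp ((allL_iff _ _).1 hl q hq)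
  refine all_of_search hB (sound_okEach fun q hq => sound_okI (chkB_lt hB) (hr q hq) (hr q hq) fun _ _ h => h q hq)
    (fun g _ hP φ hφ h => hgood g φ hφ ?_) h
  rwa [(allL_iff _ _).2 fun q hq => (hφ.intw_iff (hr q hq) (hr q hq)).2 (hP q hq), Bool.not_true, Bool.false_or] at h

theorem cf_inj : Function.Injective cf := (injective_iff_map_eq_one _).2 fun a ha => Subtype.ext <|
  of_comm (v := 0x306d7a35691b00814a11a92677a8ae) (vi := 0xa54f32a9091824e88a0c25c267aecd) (l := Mathieu.gens12)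
    (by decide +kernel) (by decide +kernel) (fun _ _ hφ h => hφ.isId_iff.1 h) (by decide +kernel) a a.2.1
    fun q hq => (cf_fix.1 (show cf a ⟨_, (is12_spec ((allL_iff _ _).1
      (by decide +kernel : allL Mathieu.gens12 is12 = true) q hq)).2⟩ = _ by rw [ha]; rfl)).symm

theorem cf_surj : Function.Surjective cf := fun φ => by
  have h0 : ∀ ψ ∈ Inn Spor.M12, ψ ∈ cf.range := by
    rintro _ ⟨m, rfl⟩
    exact ⟨⟨m, le_NN m.2⟩, rfl⟩
  let g : NN := ⟨_, pm_mem Agent.S5620.mg, Or.inr Agent.S5620.g1⟩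
  have h1 : (cf g : Out Spor.M12) ≠ 1 := fun h => by
    obtain ⟨m, hm⟩ := (QuotientGroup.eq_one_iff _).1 h
    have h2 := congrArg Subtype.val (cf_inj (a₁ := ⟨m, le_NN m.2⟩) hm)
    have h3 := (mem12.1 m.2).2
    rw [show (m : P24) = _ from h2, Agent.S5620.g1] at h3
    have h4 : pt 0 ∈ ofMask 340831 := Mathieu.pt0_mem_dod0
    exact Finset.mem_compl.1 (h3 ▸ h4) h4
  by_cases h2 : (φ : Out Spor.M12) = 1
  · exact h0 _ ((QuotientGroup.eq_one_iff _).1 h2)
  · obtain ⟨m, hm⟩ := h0 _ (QuotientGroup.eq.1 (((Nat.card_eq_two_iff' 1).1 Agent.S2061.result).unique h1 h2))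
    exact ⟨g * m, by rw [map_mul, hm, mul_inv_cancel_left]⟩

/-! ### centralizers -/

/-- the centralizer in `M12` of a list of packed permutations -/
noncomputable def CL (l : List ℕ) : Subgroup Spor.M12 := ⨅ q ∈ l, (centralizer {pm q}).comap Spor.M12.subtype

theorem mem_CL {l : List ℕ} {m : Spor.M12} : m ∈ CL l ↔ ∀ q ∈ l, (m : P24) * pm q = pm q * m := by
  simp [CL, mem_iInf, mem_centralizer_singleton_iff, mem_subgroupOf]

theorem card_CL {v vi : ℕ} (hB : chkB v vi = true) {l : List ℕ} (hl : allL l isM = true) :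
    Nat.card (CL l) = csearch vi (okAnd (okS (ap v) 340831 340831) (okEach l fun q => okI (ap v) (ap q) (ap q)))
      fun φ => and (setTo φ 340831 340831) (allL l fun q => intw φ (ap q) (ap q)) := by
  have hr := fun q hq => pm_rp ((allL_iff _ _).1 hl q hq)
  rw [← card_of_search (P := fun g => g • ofMask 340831 = ofMask 340831 ∧ ∀ q ∈ l, g * pm q = pm q * g) hB
    ((sound_okS (chkB_lt hB) fun _ _ h => h.1).and (sound_okEach fun q hq =>
      sound_okI (chkB_lt hB) (hr q hq) (hr q hq) fun _ _ h => h.2 q hq)) fun g _ φ hφ => by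
        rw [Bool.and_eq_true, hφ.setFix_iff, allL_iff]
        exact and_congr_right' (forall₂_congr fun q hq => hφ.intw_iff (hr q hq) (hr q hq))]
  exact Nat.card_congr ⟨fun m => ⟨m.1, (mem12.1 m.1.2).1, (mem12.1 m.1.2).2, mem_CL.1 m.2⟩,
    fun g => ⟨⟨g, mem12.2 ⟨g.2.1, g.2.2.1⟩⟩, mem_CL.2 g.2.2.2⟩, fun _ => rfl, fun _ => rfl⟩

/-- an involution of `M12` without fixed points -/
def t0 : ℕ := 0x2d176519cc3c530acda47cae810c01
/-- an outer involution -/
def d0 : ℕ := 0x4926858734096a6b2af250278b8b7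
/-- generators of `A5` -/
def ys : List ℕ := [0x715f7a86c99d08d3ad105022c91862, 0xbaab3a30e673db25d9228c0a322020, 0xa15f798630ab88c3a909582cd18a46]

theorem card_t : Nat.card (CL [t0]) = 240 := (card_CL chkB_id (by decide +kernel)).trans (by decide +kernel)

theorem card_d : Nat.card (CL [d0]) = 120 :=
  (card_CL (v := 0x4be6cb42b432d433c492721a2286e0) (vi := 0xce30aa152b1cb4736e65bc6961040) (by decide +kernel)
    (by decide +kernel)).trans (by decide +kernel)

theorem card_td : Nat.card (CL [t0, d0]) = 120 :=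
  (card_CL (v := 0x31655051230d9a78a9c225d6c7a270) (vi := 0x33a920d5601a5a42aa2265ec7821f3) (by decide +kernel)
    (by decide +kernel)).trans (by decide +kernel)

theorem sq_of_comm {g : P24} (hg : g ∈ NN) (h : ∀ q ∈ ys, g * pm q = pm q * g) : g * g = 1 := by
  refine of_comm (v := 0x3c0d3bbe851d531b39601214193584) (vi := 0x9add1a0d9692841495a6bd60079c88)
    (Q := fun g => g ∈ NN → g * g = 1) (by decide +kernel) (by decide +kernel) (good := fun φ =>
      or (isId fun x => φ (φ x)) (not (or (setTo φ 340831 340831) (setTo φ 340831 16436384))))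
    (fun g φ hφ h hg => ?_) (by decide +kernel) g hg.1 h hg
  have h1 : (or (setTo φ 340831 340831) (setTo φ 340831 16436384)) = true := by
    rw [Bool.or_eq_true, hφ.setTo_iff, hφ.setTo_iff]
    exact hg.2.imp Eq.subset fun h => (h.trans Mathieu.ofMask_dod1.symm).subset
  rwa [h1, Bool.not_true, Bool.or_false, (hφ.mul hφ).isId_iff] at h

/-! ### involutions -/

theorem inv_search {v vi b m m0 s : ℕ} {L : List ℕ} (hB : chkB v vi = true) (hb : b < 24) (hL : allL L is12 = true)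
    (hs : isM s = true) (hc : ptCover Mathieu.gens11 b m0 = true)
    (h : asearch vi (okAnd (okS (ap v) 340831 m) (okAnd (okPt (ap v) 0 b) (okPt (ap v) b 0)))
      (fun φ => or (not (isId fun x => φ (φ x))) (pk (fun φ => or (not (setTo φ 340831 m))
        (or (not (Nat.beq (Nat.land (fixM φ) 340831) 0)) (cj L s φ))) φ)) = true)
    (hm : ∀ k ∈ Spor.M12, k • ofMask m = ofMask m) {g : P24} (hg : g ∈ M24) (h2 : g * g = 1)
    (h3 : g • ofMask 340831 = ofMask m) (h4 : g (pt 0) ∈ ofMask m0) :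
    (∃ p ∈ ofMask 340831, g p = p) ∨ ∃ r ∈ Spor.M12, r * pm s * r⁻¹ = g := by
  obtain ⟨k, hk, hk1, hk2⟩ := ptCover_spec Spor.M11 (fun q hq => by
    have h5 := (allL_iff _ _).1 (by decide +kernel :
      (allL Mathieu.gens11 fun q => and (is12 q) (Nat.beq (ap q 0) 0)) = true) q hq
    rw [Bool.and_eq_true, beq_iff'] at h5
    obtain ⟨h6, h7⟩ := is12_spec h5.1
    exact ⟨h6, Mathieu.mem_M11.2 ⟨pm_mem h6, (mem12.1 h7).2,
      ((pm_rp h6).pt_eq_iff (by norm_num) (by norm_num)).2 h5.2⟩⟩) hb hc _ h4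
  obtain ⟨-, k1, k0⟩ := Mathieu.mem_M11.1 hk1
  have hk3 : k ∈ Spor.M12 := mem12.2 ⟨hk, k1⟩
  have e0 : k⁻¹ (pt 0) = pt 0 := Equiv.Perm.inv_eq_iff_eq.2 k0.symm
  have e1 : k⁻¹ (g (pt 0)) = pt b := Equiv.Perm.inv_eq_iff_eq.2 hk2.symm
  have hc := chkB_lt hB
  rcases all_of_search (P := fun g => g * g = 1 ∧ g • ofMask 340831 = ofMask m ∧ g (pt 0) = pt b ∧ g (pt b) = pt 0)
    (Q := fun g => (∃ p ∈ ofMask 340831, g p = p) ∨ ∃ r ∈ Spor.M12, r * pm s * r⁻¹ = g) hB
    ((sound_okS hc fun _ _ h => h.2.1).and ((sound_okPt hc (by norm_num) hb fun _ _ h => h.2.2.1).and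
      (sound_okPt hc hb (by norm_num) fun _ _ h => h.2.2.2)))
    (fun g _ hP φ hφ h => by
      rw [(hφ.mul hφ).isId_iff.2 hP.1, Bool.not_true, Bool.false_or, pk_eq, (hφ.mk.setTo_iff _ _).2 hP.2.1.subset,
        Bool.not_true, Bool.false_or, Bool.or_eq_true] at h
      refine h.imp (fun h => ?_) fun h => ?_
      · by_contra! h5
        have h6 : ofMask (fixM (ap (mk φ)) &&& 340831) = ofMask 0 := by
          rw [ofMask_land, hφ.mk.ofMask_fixM, ofMask_zero]
          exact Finset.eq_empty_of_forall_notMem fun p hp =>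
            h5 p (Finset.mem_inter.1 hp).2 (mem_fixS.1 (Finset.mem_inter.1 hp).1)
        rw [ofMask_inj (Nat.and_lt_two_pow _ (by norm_num)) (by norm_num)] at h6
        rw [show Nat.beq (Nat.land _ 340831) 0 = true from beq_iff'.2 h6] at h
        cases h
      · obtain ⟨r, hr, h1⟩ := (anyL_iff _ _).1 h
        obtain ⟨h5, h6⟩ := is12_spec ((allL_iff _ _).1 hL r hr)
        exact ⟨_, h6, by rw [((pm_rp h5).intw_iff (pm_rp hs) hφ.mk).1 h1, mul_inv_cancel_right]⟩)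
    h (k⁻¹ * g * k⁻¹⁻¹) (mul_mem (mul_mem (inv_mem hk) hg) (inv_mem (inv_mem hk)))
    ⟨by rw [conj_mul, h2]; simp, by rw [inv_inv, mul_smul, mul_smul, (mem12.1 hk3).2, h3, hm _ (inv_mem hk3)],
      conj_apply e0 e1 rfl, conj_apply e1 e0 (by rw [← Equiv.Perm.mul_apply, h2]; rfl)⟩ with ⟨p, hp, h5⟩ | ⟨r, hr, h5⟩
  · refine Or.inl ⟨k p, (mem12.1 hk3).2 ▸ (smul_mem_smul' k).2 hp, ?_⟩
    rwa [inv_inv, Equiv.Perm.mul_apply, Equiv.Perm.mul_apply, Equiv.Perm.inv_eq_iff_eq] at h5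
  · refine Or.inr ⟨k * r, mul_mem hk3 hr, ?_⟩
    rw [mul_inv_rev, mul_assoc k, mul_assoc k, ← mul_assoc (r * _), h5]
    group

/-- conjugating elements -/
def cIn : List ℕ := [0xbdab49ca307b9ac5a928398a418820, 0x8da6fac2f2a390c59ccd524a410c20, 0x8aa6fa22f2a96093ac8db31c618820,
  0xbaa959ca28795a93d990591c610c20, 0x8da6572568a564cba9a63c1e311020, 0xad2eab19d289db02cd247b16240c20,
  0xabaf63b5ec52e12a150399a2920820, 0x5d9d49a2292d4ccb9e12535e320820, 0x9962ab42a959e487b9a3a32e430820,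
  0x3a8afa36e474d898da485c2a330820, 0xbaa8e290ed7cd098ae0cb4aa311820, 0x9be2b530a8bda1275086aa4e268c20,
  0xad2eb3b0ad8da5073c899994340820, 0xb2dd3a4ae92bcc489da8542a260c20, 0x2ce27bb6b25a9267d20c70ec440820,
  0x51dee9a62cad0705de48b18a269020, 0xbdaa57196d7ce0c89d0954a8219020, 0xbaeae9c1522d18db4464399e848820,
  0x51cb3acaec73c868adb0b228348820, 0x7ce36390b0bad0d75589a194290c20, 0xa3aeb54a643d90da96037a62660820,
  0x9bd573b4b0b2c64ab92ca4a2232020, 0xb2dd57c2262d124ba90d3ca6360820, 0xa56e75a5cd8aa482bccc992c280c20,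
  0x9be27b25d0ba9122d4c4a316368820, 0x5daa5a12e99bc723c50d531c281820, 0x51cb47a22475586bda0d5ca6248c20,
  0x51de5a1963acd908d912ba5c468820, 0x5d9cfab6e62cd2c8aa503a28220c20, 0xa56f6510b28ada874d867a4e380820,
  0x2ce3650de95de46ab990a34e241020, 0x5daae7b0e39d132ba9a8890a680820, 0x3a8b59c22c75089bad12b35e230c20,
  0x75177531e68d909a94709b4e490820, 0x7ce2a599c8b9e0d2d12ca92c390820, 0xb5eb3a2170795a38a8d23a5c261020]

/-- conjugating elements -/
def cOut : List ℕ := [0xba9719c2a6759a939452a11e860460, 0xba8eba92887d9ac8ba09988a3904c0, 0xbc54ba41cc2d8923d5a378a6640520,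
  0xbad47991f2758498d1a62c2a818580, 0xb9d51a88a97da0c5cda87128330640, 0xbaa27a0a632d9b25bc8cac1c648500,
  0xb9d56a32b09ae448b906788a368520, 0xbaa3674a8d7ad103d58928a6620460, 0xbc4f6aa1c42ad8d55243989e9804c0,
  0xbc54770a697ad90b150daca8618480, 0xb9e2aa89e32ae4db4d84a21c930600, 0xba8f1a08a69ad04b3e50732a3485a0,
  0xb9d558b2c971642a4da67916140e00, 0xbaeae9c1522d18db4464399e848820, 0xbd576999e42d06d71d928c14808920,
  0xb9547709f29d490a45065a6cd08d80, 0xbd9743a5509d4867151278e21609a0, 0xbaed48a54c2ba43acda4798e180900,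
  0xbd96a7268d2c4833cd9279aa240600, 0xbaec771ab22c58353c8d9a68280500, 0xba967a91e3a44d0b39822a668905a0,
  0xbaacb7a4a89c4d23d090ab1cd10460, 0xbd9477b1d09c4925d4c8a24ad18440, 0xbad56aa662a4590394c3711e868640,
  0xba8f489166715a2abe499b2c180d00, 0xbaed5518e87d1897160d98e2120a40, 0xbd5477b269750522d8cd8c16808c80,
  0xbda8e7a0ed2d4925c46c5267030820, 0xbd2cb7a66c2d4727288d8a0f0088c0, 0xbd975898e42b9a3a3e4c9a54140a00,
  0xbd2ae504a69da125bc888b4e348980, 0xbdaae2b26d52c26a1d037ca2448a00, 0xbd2a5585cc79e0d54d288cac220cc0,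
  0xbd6d174a897cd0c2aa0d3996209060, 0xbda3338d70795a8ab989a494131040, 0xbdaa57196d7ce0c89d0954a8219020,
  0xbaab49c9e689c2c2d9247416810da0, 0xb96b48866c7a9b03b90959ac410e40, 0xbd96e50e2d7d209acd88298e190880,
  0xbaece38e329d506a3c902a54168980, 0xbdab49ca307b9ac5a928398a418820, 0xbd6cb998a87b92ca1db054a2408860,
  0xbd5d4385e32d88c5cdb25422930900, 0xbd68e384a97ad0db4d908c94330880, 0xbd685b05c49a9123bcd08b56260d20,
  0xbaa8e290ed7cd098ae0cb4aa311820, 0xbd4b3506887c530b398d598e391040, 0xbaa33588e87b9b0a152cacac121860,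
  0xbaecaaa68899e468960478dc268580, 0xbc6cb28e6c79d2853a0da4aa4104c0, 0xbda2a2caad79e085d12c70e6430440,
  0xbae36a0de271e4d54d26ac0ac20500, 0xbd971a8dc499e0653e482a682605a0, 0xbc56aa40a671d2db564298dec40480,
  0xbc57628de49a8d03b912ab68c10520, 0xbae272b6929a910b54c470dec48440, 0xbd967a1ab07a9a98950c98dc290480,
  0xbaed1a0dcc7a9093cdb029aa220640, 0xbda2ba8e62729b23bcc9a20a460600, 0xbc6c7aa0a9728d25d1a278e6480580,
  0xbba95886697d9a85960c3914618a40, 0xbbab4885e69ae50b1504530e9189a0, 0xbd147991d079589aada8b4a2608c40,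
  0xbaa959ca28795a93d990591c610c20, 0xb9d4558a329d204abcc8732c168d20, 0xba8e5b0a2d7d50ca4d307116190cc0]

theorem inv_in {g : P24} (hg : g ∈ Spor.M12) (h2 : g * g = 1) :
    (∃ p ∈ ofMask 340831, g p = p) ∨ ∃ r ∈ Spor.M12, r * pm t0 * r⁻¹ = g := by
  by_cases h0 : g (pt 0) = pt 0
  · exact Or.inl ⟨_, Mathieu.pt0_mem_dod0, h0⟩
  refine inv_search (b := 1) (m0 := 340830) (L := cIn) chkB_id (by norm_num) (by decide +kernel) (by decide +kernel)
    (by decide +kernel) (by decide +kernel) (fun _ h => (mem12.1 h).2) (mem12.1 hg).1 h2 (mem12.1 hg).2 ?_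
  have h1 : g (pt 0) ∈ ofMask 340831 := (mem12.1 hg).2 ▸ (smul_mem_smul' g).2 Mathieu.pt0_mem_dod0
  revert h0 h1
  generalize g (pt 0) = p
  revert p
  decide +kernel

theorem inv_out {g : P24} (hg : g ∈ M24) (h : g • ofMask 340831 = (ofMask 340831)ᶜ) (h2 : g * g = 1) :
    ∃ r ∈ Spor.M12, r * pm d0 * r⁻¹ = g := by
  have e : ofMask 16436384 = (ofMask 340831)ᶜ := Mathieu.ofMask_dod1
  refine (inv_search (v := 0x4c168ab2879aa5123ac62b5e3106e0) (vi := 0xa6717b5962a8d2abaf4820eb20c40) (b := 23)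
    (m := 16436384) (m0 := 16436384) (L := cOut) (by decide +kernel) (by norm_num) (by decide +kernel)
    (by decide +kernel) (by decide +kernel) (by decide +kernel)
    (fun _ h => by rw [e, smul_compl', (mem12.1 h).2]) hg h2 (h.trans e.symm) ?_).resolve_left ?_
  · rw [e, ← h]
    exact (smul_mem_smul' g).2 Mathieu.pt0_mem_dod0
  · rintro ⟨p, hp, h3⟩
    exact Finset.mem_compl.1 (h3 ▸ h ▸ (smul_mem_smul' g).2 hp) hp

end CfsgLib.QT3.K12
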