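import Mathlib
import Cfsg.Agent.Lib.W2.LocM12a
import Cfsg.Prelude.Def_KGroupFacts

/-!
A central extension of `M12` in which all involutions lift to involutions splits.
-/

set_option autoImplicit false
set_option linter.unusedSimpArgs false

namespace CfsgLib.QT3

open Cfsg Subgroup CfsgLib.CosetEnum CfsgLib.W2
open scoped commutatorElement

variable {Γ Y : Type*} [Group Γ] [Group Y] {σ : Γ →* Y}

/-- a central extension in which all involutions lift to involutions -/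
structure IL (σ : Γ →* Y) : Prop where
  surj : Function.Surjective σ
  cen : ∀ e, σ e = 1 → ∀ w, e * w = w * e
  sq : ∀ u, σ u * σ u = 1 → u * u = 1

theorem IL.diff (h : IL σ) {u v : Γ} (e : σ u = σ v) :
    ∃ k, (∀ v w, v * (k * w) = k * (v * w)) ∧ (∀ w, k * (k * w) = w) ∧ σ k = 1 ∧ u = k * v := by
  have h1 : σ (u * v⁻¹) = 1 := by rw [map_mul, map_inv, e, mul_inv_cancel]
  exact ⟨_, fun v w => by rw [← mul_assoc, ← h.cen _ h1, mul_assoc _ v],
    fun w => by rw [← mul_assoc, h.sq _ (by rw [h1, one_mul]), one_mul], h1, by group⟩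

theorem IL.sq' (h : IL σ) {u : Γ} {U : Y} (hu : σ u = U) (e : U * U = 1) (w : Γ) : u * (u * w) = w := by
  rw [← mul_assoc, h.sq u (by rw [hu, e]), one_mul]

theorem IL.sq2 (h : IL σ) {u v : Γ} {U V : Y} (hu : σ u = U) (hv : σ v = V) (e : U * (V * (U * V)) = 1) (w : Γ) :
    u * (v * (u * (v * w))) = w := by
  simpa only [mul_assoc] using h.sq' (u := u * v) rfl (by rw [map_mul, hu, hv, mul_assoc, e]) w

theorem IL.comm (h : IL σ) {u v : Γ} {U V : Y} (hu : σ u = U) (hv : σ v = V) (h1 : U * U = 1) (h2 : V * V = 1)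
    (e : U * (V * (U * V)) = 1) (w : Γ) : u * (v * w) = v * (u * w) := by
  rw [← h.sq2 hu hv e (v * (u * w)), h.sq' hv h2, h.sq' hu h1]

theorem IL.comm3 (h : IL σ) {x u : Γ} (hx : ∀ w, x * (x * (x * w)) = w) (e : σ x * σ u = σ u * σ x) (w : Γ) :
    x * (u * w) = u * (x * w) := by
  obtain ⟨k, h1, h2, -, h3⟩ := h.diff (u := x * u) (v := u * x) (by simp [e])
  have h4 : ∀ w, x * (u * w) = k * (u * (x * w)) := fun w => by rw [← mul_assoc, h3]; simp only [mul_assoc]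
  have h5 := hx (u * (x * w))
  rw [h4, h1 x, h4, h2, h4, hx] at h5
  rw [h4, h5]

theorem IL.lift3 (h : IL σ) {y : Y} (hy : y * (y * y) = 1) : ∃ x, σ x = y ∧ ∀ w, x * (x * (x * w)) = w := by
  obtain ⟨x, rfl⟩ := h.surj y
  obtain ⟨k, h1, h2, h3, h4⟩ := h.diff (u := x * (x * x)) (v := 1) (by simp [hy])
  refine ⟨k * x, by simp [h3], fun w => ?_⟩
  have h5 : x * (x * (x * w)) = k * w := by rw [← mul_one k, ← h4]; simp only [mul_assoc]
  simp only [mul_assoc, h1 x, h2, h5]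

theorem IL.pair (h : IL σ) {x : Γ} {X A B : Y} (hx : σ x = X) (h1 : X * (A * X⁻¹) = B) (h2 : X * (B * X⁻¹) = A * B) :
    ∃ a b, σ a = A ∧ σ b = B ∧ (∀ w, x * (a * w) = b * (x * w)) ∧ ∀ w, x * (b * w) = a * (b * (x * w)) := by
  obtain ⟨a, rfl⟩ := h.surj A
  have h3 : σ (x * (a * x⁻¹)) = B := by simp [hx, h1]
  obtain ⟨k, k1, k2, k3, k4⟩ := h.diff (u := x * (x * (a * x⁻¹) * x⁻¹)) (v := a * (x * (a * x⁻¹)))
    (by rw [map_mul, map_mul, h3, map_mul σ a, h3, map_inv, hx, h2])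
  refine ⟨k * a, k * (x * (a * x⁻¹)), by simp [k3], by rw [map_mul, h3, k3, one_mul], fun w => ?_, fun w => ?_⟩
  · simp only [mul_assoc, k1 x, inv_mul_cancel_left]
  · have h4 := congrArg (fun u => k * (u * (x * w))) k4
    simp only [mul_assoc, k1 x, k1 a, k2, inv_mul_cancel_left] at h4 ⊢
    exact h4

/-- relations in `M12` -/
def relM : List (List ℕ × List ℕ) := [([12, 12, 12], []), ([14, 14, 14], []), ([16, 6, 8, 16, 6, 8, 16, 6, 8], []),
  ([12, 0, 13], [2]), ([12, 2, 13], [0, 2]), ([12, 4, 13], [6]), ([12, 6, 13], [4, 6]), ([0, 6, 0, 6], [8]),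
  ([15, 2, 14], [10]), ([16, 6, 8, 8, 6], [16]), ([12, 8], [8, 12]), ([14, 4], [4, 14]), ([14, 16], [16, 14]),
  ([12, 16, 6, 8], [16, 6, 8, 12]), ([10, 4], [0, 4, 8, 10]), ([0, 0], []), ([2, 2], []), ([4, 4], []), ([6, 6], []),
  ([8, 8], []), ([10, 10], []), ([16, 16], []), ([2, 0, 2, 0], []), ([4, 0, 4, 0], []), ([6, 2, 6, 2], []),
  ([6, 4, 6, 4], []), ([8, 0, 8, 0], []), ([8, 2, 8, 2], []), ([8, 4, 8, 4], []), ([8, 6, 8, 6], []),
  ([10, 0, 10, 0], []), ([10, 8, 10, 8], []), ([16, 4, 16, 4], []), ([16, 6, 16, 6], []), ([10, 12, 10, 12], []),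
  ([6, 14, 6, 14], [])]

theorem relM_ok : ∀ p ∈ relM, ev gM p.1 = ev gM p.2 := fun p hp => Subtype.ext (Mathieu.code_injective
  ((code_ev _).trans (((by decide +kernel : ∀ p ∈ relM, (ev fM p.1).1 = (ev fM p.2).1) p hp).trans (code_ev _).symm)))

theorem IL.lifts {σ : Γ →* Spor.M12} (h : IL σ) : ∃ g : ℕ → Γ, (∀ j < 9, σ (g j) = gM j) ∧
    ∀ r ∈ sqW [0, 1, 2, 3, 4, 5] ++ pM12_rels, ev g r = 1 := by
  have hr := relM_ok
  simp only [relM, List.forall_mem_cons, ev_cons, ev_nil, evL, Nat.reduceMod, Nat.reduceDiv, if_true, if_false,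
    mul_one, one_ne_zero, List.not_mem_nil, false_imp_iff, implies_true, and_true] at hr
  obtain ⟨X3, Y3, W3, XA, XB, XC, XD, ZZ, TT, SS, XZ, YC, YS, XW, TC, A2, B2, C2, D2, Z2, T2, S2, BA, CA, DB, DC, ZA,
    ZB, ZC, ZD, TA, TZ, SC, SD, TX, DY⟩ := hr
  obtain ⟨x, hx, xxx⟩ := h.lift3 X3
  obtain ⟨y, hy, yyy⟩ := h.lift3 Y3
  obtain ⟨u, hu, uuu⟩ := h.lift3 (y := gM 8 * (gM 3 * gM 4)) (by simpa only [mul_assoc] using W3)
  obtain ⟨a, b, ha, hb, xa, xb⟩ := h.pair hx XA XB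
  obtain ⟨c, d, hc, hd, xc, xd⟩ := h.pair hx XC XD
  obtain ⟨z, ez⟩ : ∃ z, z = a * (d * (a * d)) := ⟨_, rfl⟩
  obtain ⟨t, et⟩ : ∃ t, t = y⁻¹ * (b * y) := ⟨_, rfl⟩
  obtain ⟨s, es⟩ : ∃ s, s = u * (z * d) := ⟨_, rfl⟩
  have hz : σ z = gM 4 := by simp only [ez, map_mul, ha, hd, ZZ]
  have ht : σ t = gM 5 := by simp only [et, map_mul, map_inv, hb, hy, TT]
  have hs : σ s = gM 8 := by simp only [es, map_mul, hu, hz, hd, mul_assoc, SS]
  have aa := h.sq' ha A2
  have bb := h.sq' hb B2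
  have cc := h.sq' hc C2
  have dd := h.sq' hd D2
  have zz := h.sq' hz Z2
  have tt := h.sq' ht T2
  have ss := h.sq' hs S2
  have ba := h.comm hb ha B2 A2 BA
  have ca := h.comm hc ha C2 A2 CA
  have db := h.comm hd hb D2 B2 DB
  have dc := h.comm hd hc D2 C2 DC
  have za := h.comm hz ha Z2 A2 ZA
  have zb := h.comm hz hb Z2 B2 ZB
  have zc := h.comm hz hc Z2 C2 ZC
  have zd := h.comm hz hd Z2 D2 ZD
  have ta := h.comm ht ha T2 A2 TA
  have tz := h.comm ht hz T2 Z2 TZ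
  have sc := h.comm hs hc S2 C2 SC
  have sd := h.comm hs hd S2 D2 SD
  have txtx := h.sq2 ht hx TX
  have dydy := h.sq2 hd hy DY
  have xz := h.comm3 (u := z) xxx (by rw [hx, hz, XZ])
  have yc := h.comm3 (u := c) yyy (by rw [hy, hc, YC])
  have ys := h.comm3 (u := s) yyy (by rw [hy, hs, YS])
  have xu := h.comm3 (u := u) xxx (by simp only [hx, hu, XW, mul_assoc])
  have sdz : ∀ w, s * (d * (z * w)) = u * w := fun w => by simp only [es, mul_assoc, dd, zz]
  have adad : ∀ w, a * (d * (a * (d * w))) = z * w := fun w => by simp only [ez, mul_assoc]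
  have da : ∀ w, d * (a * w) = a * (d * (z * w)) := fun w => by rw [← zd, ← adad, aa, dd]
  have bcbc : ∀ w, b * (c * (b * (c * w))) = z * w := fun w => by
    have h1 := xz (x * (x * w))
    rw [← adad, xa, xd, xa, xd, db, dc, dd, xxx] at h1
    exact h1
  have cb : ∀ w, c * (b * w) = b * (c * (z * w)) := fun w => by rw [← zc, ← bcbc, bb, cc]
  have tx : ∀ w, t * (x * w) = x * (x * (t * w)) := fun w => by rw [← txtx (x * (x * (t * w))), xxx, tt]
  have dy : ∀ w, d * (y * w) = y * (y * (d * w)) := fun w => by rw [← dydy (y * (y * (d * w))), yyy, dd]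
  have tb : ∀ w, t * (b * w) = a * (b * (t * w)) := fun w => by
    rw [← xxx w, ← xa, tx, ta, tx, tx, xa, xb, xxx, xxx, xxx]
  obtain ⟨k, kc, kk, -, ek⟩ := h.diff (u := t * c) (v := a * (c * (z * t))) (by simp only [map_mul, ht, hc, ha, hz, TC])
  have tc : ∀ w, t * (c * w) = k * (a * (c * (z * (t * w)))) := fun w => by
    rw [← mul_assoc, ek]; simp only [mul_assoc]
  have td : ∀ w, t * (d * w) = k * (a * (b * (c * (d * (z * (t * w)))))) := fun w => by
    rw [← xxx w, ← xc, tx, tc, tx, tx]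
    simp only [kc x, xa, xb, xc, xd, xz, xxx]
  obtain rfl : k = 1 := by
    have h1 := tx (d * (x * (x * 1)))
    rw [xd, xxx, tc, td, td, tx, tx] at h1
    simp only [kc x, kc a, kc c, kc z, kc t, kk, xa, xb, xc, xd, xz, xxx, aa, bb, cc, dd, zz, ba, ca, db, dc, za, zb, zc,
      zd, da, cb] at h1
    exact right_eq_mul.1 h1
  simp only [one_mul] at tc td
  have yt : ∀ w, y * (t * w) = b * (y * w) := fun w => by simp only [et, mul_assoc, mul_inv_cancel_left]
  have yb : ∀ w, y * (b * w) = a * (b * (c * (t * (y * w)))) := fun w => by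
    have h1 : d * (t * (d * (y * w))) = y * (b * w) := by
      rw [← yyy (t * _), yt, dy, dy, dy, yyy, yyy, db, dd]
    rw [← h1, td]
    simp only [aa, bb, cc, dd, zz, ba, ca, db, dc, za, zb, zc, zd, da, cb]
  have yz : ∀ w, y * (z * w) = a * (y * w) := fun w => by
    rw [← bcbc, yb, yc, yb, yc]
    simp only [aa, bb, cc, dd, zz, tt, ba, ca, db, dc, za, zb, zc, zd, da, cb, ta, tb, tc, tz]
  have ya : ∀ w, y * (a * w) = a * (z * (y * w)) := fun w => by
    have h1 := dy (z * (d * (y * (y * w))))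
    rw [yz, ← zd, dd, yz, yyy, da, ← zd, dydy] at h1
    exact h1.symm
  refine ⟨fun j => [a, b, c, d, z, t, x, y, s].getD j 1, fun j hj => ?_, ?_⟩
  · interval_cases j <;> assumption
  · have e1 : ∀ w, z * (d * (s⁻¹ * w)) = u⁻¹ * w := fun w => by
      rw [eq_inv_mul_iff_mul_eq, ← sdz, zz, dd, mul_inv_cancel_left]
    simp only [sqW, mapL_eq, List.map_cons, List.map_nil, pM12_rels, List.cons_append, List.nil_append,
      List.forall_mem_cons, ev_cons, ev_nil, evL, Nat.mul_eq, Nat.reduceMul, Nat.reduceMod, Nat.reduceDiv, if_true,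
      if_false, one_ne_zero, List.not_mem_nil, false_imp_iff, implies_true, and_true, List.getD_cons_succ,
      List.getD_cons_zero, txtx, dydy, sdz, e1]
    simp only [aa, bb, cc, dd, zz, tt, ss, ba, ca, db, dc, za, zb, zc, zd, da, cb, ta, tb, tc, td, tz, xa, xb, xc, xd,
      xz, xu, xxx, yyy, uuu, ya, yb, yc, yz, yt, sc, sd, ← ys, mul_inv_cancel_left, and_self]

theorem IL.ker_eq_bot {σ : Γ →* Spor.M12} (h : IL σ) (hk : σ.ker ≤ _root_.commutator Γ) : σ.ker = ⊥ := by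
  obtain ⟨g, h1, h2⟩ := h.lifts
  obtain ⟨ψ, h3, -⟩ := pM12_pres.exists_hom h2 gM_rels Mathieu.card_M12.ge gM_gen
  have h4 : ∀ m, σ (ψ m) = m := fun m => by
    have h5 : gen gM [[0], [2], [4], [6], [8], [10], [12], [14], [16]] ≤ (σ.comp ψ).eqLocus (MonoidHom.id _) :=
      gen_le.2 fun w hw => by
        obtain ⟨j, hj, rfl⟩ := (by decide : ∀ w ∈ [[0], [2], [4], [6], [8], [10], [12], [14], [16]],
          ∃ j < 9, w = [2 * j]) w hw
        show σ (ψ _) = _
        rw [h3 _ hw, W2.ev_single, W2.ev_single, h1 j hj]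
        rfl
    exact h5 (gM_gen.ge (mem_top m))
  have h5 : _root_.commutator Γ ≤ ψ.range := commutator_le.2 fun p _ q _ => by
    have h6 : ∀ p, ∃ k, (∀ w, k * w = w * k) ∧ p = k * ψ (σ p) := fun p =>
      ⟨p * (ψ (σ p))⁻¹, h.cen _ (by simp [h4]), by group⟩
    obtain ⟨k, k1, k2⟩ := h6 p
    obtain ⟨l, l1, l2⟩ := h6 q
    refine ⟨⁅σ p, σ q⁆, ?_⟩
    rw [map_commutatorElement]
    generalize ψ (σ p) = p' at k2
    generalize ψ (σ q) = q' at l2
    rw [k2, l2, commutatorElement_def, commutatorElement_def]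
    calc _ = k * (p' * (l * (q' * p'⁻¹ * q'⁻¹) * l⁻¹) * (l * q')) * k⁻¹ * (l * q')⁻¹ := by
          rw [l1 (_ * _), mul_inv_cancel_right, k1, mul_inv_cancel_right, l1]; group
      _ = _ := by group
  refine eq_bot_iff.2 fun e he => ?_
  obtain ⟨m, rfl⟩ := h5 (hk he)
  rw [MonoidHom.mem_ker, h4] at he
  rw [he, map_one]
  exact one_mem _

end CfsgLib.QT3
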