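import Mathlib
import Cfsg.Agent.Lib.QT3.Congr
import Cfsg.Agent.Lib.AltAut.Basic
import Cfsg.Agent.Lib.Char.Burnside
import Cfsg.Agent.Lib.Transfer.Frobenius

/-!
Permutations of 2-power order commuting with a long cycle; pump-ups to `A₆`; `N5` for `A₈`.
-/

set_option autoImplicit false

namespace CfsgLib.QT3

open Cfsg Subgroup CfsgLib.LBal CfsgLib.LAE CfsgLib.QT2 Equiv Equiv.Perm

section perm

variable {α : Type*} [DecidableEq α] [Fintype α]

theorem a8_fix_supp {x π : Perm α} {p k : ℕ} (hp : p.Prime) (h2 : p ≠ 2) (hx : orderOf x = p)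
    (hc : Fintype.card α < 2 * p) (hπ : π ^ 2 ^ k = 1) (h : π * x = x * π) {a : α} (ha : x a ≠ a) : π a = a := by
  have hcy := isCycle_of_prime_order' (hx ▸ hp) (hx ▸ hc)
  have hb : x (π a) ≠ π a := fun e => ha (π.injective (by rw [← Perm.mul_apply, h]; exact e))
  obtain ⟨i, hi⟩ := hcy.exists_pow_eq ha hb
  have h1 : ∀ n, (π ^ n) a = (x ^ (i * n)) a := fun n => by
    induction n with
    | zero => simp
    | succ n ih =>
      rw [pow_succ', Perm.mul_apply, ih, ← Perm.mul_apply, ((show Commute π x from h).pow_right _).eq,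
        Perm.mul_apply, ← hi, ← Perm.mul_apply, ← pow_add, mul_add, mul_one]
  have h3 := h1 (2 ^ k)
  rw [hπ, Perm.one_apply, eq_comm, ← hcy.pow_eq_one_iff' ha, ← orderOf_dvd_iff_pow_eq_one, hx] at h3
  have h4 := (hp.dvd_mul.1 h3).resolve_right fun h5 =>
    h2 ((Nat.prime_dvd_prime_iff_eq hp Nat.prime_two).1 (hp.dvd_of_dvd_pow h5))
  rw [← hx, orderOf_dvd_iff_pow_eq_one] at h4
  rw [← hi, h4, Perm.one_apply]

theorem a8_card_supp {x : Perm α} {p : ℕ} (hp : p.Prime) (hx : orderOf x = p)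
    (hc : Fintype.card α < 2 * p) : x.support.card = p :=
  (isCycle_of_prime_order' (hx ▸ hp) (hx ▸ hc)).orderOf.symm.trans hx

theorem a8_supp_le {x π : Perm α} {p k : ℕ} (hp : p.Prime) (h2 : p ≠ 2) (hx : orderOf x = p)
    (hc : Fintype.card α < 2 * p) (hπ : π ^ 2 ^ k = 1) (h : π * x = x * π) :
    π.support.card + p ≤ Fintype.card α := by
  rw [← a8_card_supp hp hx hc, ← Finset.card_union_of_disjoint (Finset.disjoint_left.2 fun a h1 h3 =>
    mem_support.1 h1 (a8_fix_supp hp h2 hx hc hπ h (mem_support.1 h3)))]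
  exact Finset.card_le_univ _

theorem a8_swap {π : Perm α} {k : ℕ} (hπ : π ^ 2 ^ k = 1) (h : π.support.card ≤ 3) : π = 1 ∨ π.IsSwap := by
  by_cases h1 : π.support.card ≤ 1
  · exact Or.inl (card_support_le_one.1 h1)
  by_cases h2 : π.support.card = 2
  · exact Or.inr (card_support_eq_two.1 h2)
  have h3 := (card_support_eq_three_iff.1 (by omega : π.support.card = 3)).orderOf
  rw [← orderOf_dvd_iff_pow_eq_one, h3] at hπ
  exact absurd (Nat.prime_three.dvd_of_dvd_pow hπ) (by norm_num)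

theorem a8_conj_eq {π : Perm α} {g : alternatingGroup α} :
    MulAut.conjNormal π g = g ↔ π * g = g * π := by
  rw [Subtype.ext_iff, MulAut.conjNormal_apply, mul_inv_eq_iff_eq_mul]

theorem a8_sq (h4 : 4 ≤ Nat.card α) {π : Perm α}
    (h : orderOf (MulAut.conjNormal π : MulAut (alternatingGroup α)) = 2) : π ^ 2 ^ 1 = 1 ∧ π ≠ 1 := by
  rw [orderOf_injective _ (AltAut.conjNormal_injective h4)] at h
  exact ⟨by rw [pow_one, ← h, pow_orderOf_eq_one], fun e => by simp [e] at h⟩

end perm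

theorem a8_exists_elt {Y : Type*} [Group Y] [Finite Y] {L : Subgroup Y} {p : ℕ} (hp : p.Prime)
    (h : p ∣ Nat.card L) : ∃ x ∈ L, orderOf x = p := by
  haveI := Fact.mk hp
  obtain ⟨x, hx⟩ := exists_prime_orderOf_dvd_card' p h
  exact ⟨x, x.2, (orderOf_coe x).trans hx⟩

theorem kp_A6 : KP (alternatingGroup (Fin 6)) := fun φ L h => by
  exfalso
  have hns := Comp.qs_not_isSolvable h.rc.2
  have hd : Nat.card L ∣ 360 := by
    have := card_subgroup_dvd_card L
    rwa [nat_card_alternatingGroup, Nat.card_fin] at this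
  obtain ⟨y, hy, y3⟩ := a8_exists_elt Nat.prime_three (L := L) (by
    by_contra h3
    exact hns (Char.isSolvable_of_card_dvd_pow_mul_pow (a := 3) (b := 1) Nat.prime_two Nat.prime_five
      (((Nat.prime_three.coprime_iff_not_dvd.2 h3).symm.pow_right 2).dvd_of_dvd_mul_right hd)))
  obtain ⟨x, hx, x5⟩ := a8_exists_elt Nat.prime_five (L := L) (by
    by_contra h5
    exact hns (Char.isSolvable_of_card_dvd_pow_mul_pow (a := 3) (b := 2) Nat.prime_two Nat.prime_three
      ((Nat.prime_five.coprime_iff_not_dvd.2 h5).symm.dvd_of_dvd_mul_right hd)))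
  obtain ⟨π, rfl⟩ := AltAut.exists_perm_of_threeCycles (by simp) φ
    (AltAut.isThreeCycle_map_six φ y3 (by rw [show φ y = y from h.rc.le hy]))
  obtain ⟨h1, h2⟩ := a8_sq (by simp) h.ord
  have h3 := a8_supp_le Nat.prime_five (by norm_num) ((orderOf_coe x).trans x5) (by simp) h1
    (a8_conj_eq.1 (h.rc.le hx))
  exact h2 (card_support_le_one.1 (by simpa using h3))

theorem n5_S8 {y : Perm (Fin 8)} {Q : Subgroup (Perm (Fin 8))} (hy : y ^ 5 = 1) (hQ : IsPGroup 2 Q)
    (hn : y ∈ normalizer (Q : Set (Perm (Fin 8)))) : y ∈ centralizer (Q : Set (Perm (Fin 8))) := by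
  haveI := Fact.mk Nat.prime_five
  by_cases h1 : y = 1
  · exact h1 ▸ one_mem _
  have y5 : orderOf y = 5 := orderOf_eq_prime hy h1
  have key : ∀ R ≤ Q ⊓ alternatingGroup (Fin 8), y ∈ normalizer (R : Set (Perm (Fin 8))) →
      Nat.card R ≡ 1 [MOD 5] := fun R hR h2 => by
    have h3 := Transfer.card_modEq_card_inf_centralizer (q := 5) h2 ⟨1, hy⟩
    rwa [(eq_bot_iff_forall (R ⊓ centralizer {y})).2 fun r hr => ?_, card_bot] at h3
    obtain ⟨k, hk⟩ := hQ ⟨r, (hR hr.1).1⟩
    have h4 : r ^ 2 ^ k = 1 := congrArg Subtype.val hk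
    have h5 := a8_supp_le Nat.prime_five (by norm_num) y5 (by simp) h4 (mem_centralizer_singleton_iff.1 hr.2)
    refine (a8_swap h4 (by simpa using h5)).resolve_right fun h6 => ?_
    have h7 := mem_alternatingGroup.1 (hR hr.1).2
    rw [h6.sign_eq] at h7
    exact absurd h7 (by decide)
  generalize hR : Q ⊓ alternatingGroup (Fin 8) = R at key
  have mR : ∀ {r}, r ∈ R ↔ r ∈ Q ∧ r ∈ alternatingGroup (Fin 8) := by rw [← hR]; exact mem_inf
  have nR : ∀ r ∈ R, y * r * y⁻¹ ∈ R := fun r hr => mR.2 ⟨(mem_normalizer_iff.1 hn r).1 (mR.1 hr).1,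
    (inferInstance : (alternatingGroup (Fin 8)).Normal).conj_mem _ (mR.1 hr).2 _⟩
  have hR2 : IsPGroup 2 R := hQ.to_le fun r hr => (mR.1 hr).1
  have fx : ∀ w, y w = w → ∀ r ∈ R, r w = w := fun w hw r hr => by
    have h2 := key _ le_rfl (mem_normalizer_fintype nR)
    have h3 := key (R ⊓ MulAction.stabilizer _ w) inf_le_left (mem_normalizer_fintype fun r hr =>
      ⟨nR r hr.1, by
        show y (r (y⁻¹ w)) = w
        rw [Perm.inv_eq_iff_eq.2 hw.symm, show r w = w from hr.2, hw]⟩)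
    have h4 := (MulAction.stabilizer R w).card_mul_index
    have h5 : Nat.card (R ⊓ MulAction.stabilizer (Perm (Fin 8)) w : Subgroup _) =
        Nat.card (MulAction.stabilizer R w) := Nat.card_congr
      { toFun := fun x => ⟨⟨x.1, x.2.1⟩, x.2.2⟩
        invFun := fun x => ⟨x.1.1, x.1.2, x.2⟩
        left_inv := fun _ => rfl
        right_inv := fun _ => rfl }
    obtain ⟨k, hk⟩ := hR2.index (MulAction.stabilizer R w)
    have h6 : 2 ^ k ≤ 8 := by
      rw [← hk, MulAction.index_stabilizer]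
      simpa using Set.ncard_le_card (MulAction.orbit R w)
    have h7 : k ≤ 3 := (Nat.pow_le_pow_iff_right (by norm_num : 1 < 2)).1 h6
    rw [hk, ← h5] at h4
    have h8 : k = 0 := by
      unfold Nat.ModEq at h2 h3
      interval_cases k <;> omega
    rw [h8, pow_zero, index_eq_one] at hk
    exact (hk ▸ mem_top _ : (⟨r, hr⟩ : R) ∈ MulAction.stabilizer R w)
  have triv : ∀ r ∈ R, r = 1 := by
    have h2 := hR2.card_modEq_card_fixedPoints (Fin 8)
    have h3 : ∃ a, y a ≠ a ∧ ∀ r ∈ R, r a = a := by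
      by_contra h3
      push Not at h3
      have h4 : MulAction.fixedPoints R (Fin 8) = (y.supportᶜ : Finset (Fin 8)) := by
        ext a
        rw [Finset.mem_coe, Finset.mem_compl, notMem_support]
        refine ⟨fun h => by_contra fun h5 => ?_, fun h r => fx a h r r.2⟩
        obtain ⟨r, hr, h6⟩ := h3 a h5
        exact h6 (h ⟨r, hr⟩)
      rw [h4, Finset.coe_sort_coe, Nat.card_eq_finsetCard, Finset.card_compl,
        a8_card_supp Nat.prime_five y5 (by simp)] at h2
      revert h2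
      simp [Nat.ModEq]
    obtain ⟨a, ha, h4⟩ := h3
    have h5 : ∀ n, ∀ r ∈ R, r ((y⁻¹ ^ n) a) = (y⁻¹ ^ n) a := fun n => by
      induction n with
      | zero => exact h4
      | succ n ih =>
        intro r hr
        rw [pow_succ', Perm.mul_apply, Perm.eq_inv_iff_eq]
        exact ih _ (nR r hr)
    intro r hr
    ext b
    by_cases hb : y b = b
    · exact congrArg _ (fx b hb r hr)
    · obtain ⟨i, rfl⟩ := (isCycle_of_prime_order' (y5 ▸ Nat.prime_five) (by simp [y5])).inv.exists_pow_eq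
        (x := a) (y := b) (fun e => ha (Perm.inv_eq_iff_eq.1 e).symm) fun e => hb (Perm.inv_eq_iff_eq.1 e).symm
      exact congrArg _ (h5 i r hr)
  intro q hq
  have h2 := triv (y * q * y⁻¹ * q⁻¹) (mR.2 ⟨mul_mem ((mem_normalizer_iff.1 hn q).1 hq) (inv_mem hq), by
    rw [mem_alternatingGroup]
    simp only [map_mul, map_inv]
    rw [mul_inv_cancel_comm, mul_inv_cancel]⟩)
  rw [mul_inv_eq_one, mul_inv_eq_iff_eq_mul] at h2
  exact h2.symm

theorem n5_alt8 : N5 (alternatingGroup (Fin 8)) := fun y Q h1 h2 h3 => by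
  let c := (MulEquiv.ofBijective _ (AltAut.conjNormal_bijective (α := Fin 8) (by simp) (by simp))).symm
  have h4 := n5_S8 (y := c y) (Q := Q.map c.toMonoidHom) (by rw [← map_pow, h1, map_one]) (h2.map _)
    (le_normalizer_map c.toMonoidHom (mem_map_of_mem c.toMonoidHom h3))
  intro q hq
  exact c.injective (by rw [map_mul, map_mul]; exact h4 _ (mem_map_of_mem c.toMonoidHom hq))

end CfsgLib.QT3
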