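import Mathlib
import Cfsg.Agent.Lib.QT3.KSp4A
import Cfsg.Agent.Lib.J2.Hundred
import Cfsg.Agent.Lib.SylT.J2a
import Cfsg.Agent.Lib.JT.Tools
import Cfsg.Agent.Lib.MultC.Cover
import Cfsg.Agent.Lib.Comput.Cent
import Cfsg.Agent.Lib.Comput.CentExt

/-!
The outer involutions of `J2`.
-/

set_option autoImplicit false
set_option maxRecDepth 100000

namespace CfsgLib.QT3

open Cfsg Subgroup
open scoped commutatorElement

theorem h1_of_sylow {Y : Type*} [Group Y] [Finite Y] (hc : Function.Injective (MulAut.conj : Y →* MulAut Y))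
    {f : MulAut Y} (h2 : f * f = 1) (U0 : Sylow 2 Y) (hU : ∀ u ∈ U0, f u ∈ U0)
    (h1 : ∀ g ∈ U0, g * f g = 1 → ∃ u, u⁻¹ * f u = g) (y : Y) (hy : y * f y = 1) : ∃ u, u⁻¹ * f u = y := by
  have e0 : ∀ x, f (f x) = x := fun x => by rw [← MulAut.mul_apply, h2]; rfl
  obtain ⟨U, -, hU'⟩ := inv_sylow_top hc (ψ := MulAut.conj y * f) (k := 1) (by
    rw [pow_one, sq, mul_assoc, ← mul_assoc f, aut_mul_conj, mul_assoc, h2, mul_one, ← map_mul, hy, map_one])
    IsPGroup.of_bot fun x hx => by rw [mem_bot.1 hx, map_one]; exact one_mem _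
  obtain ⟨g, hg⟩ := MulAction.exists_smul_eq Y U U0
  have hg' : ∀ x, x ∈ U ↔ g * x * g⁻¹ ∈ U0 := fun x => by
    rw [← hg]
    exact (Subgroup.smul_mem_pointwise_smul_iff (a := MulAut.conj g) (S := (U : Subgroup Y)) (x := x)).symm
  obtain ⟨-, m, hm⟩ := exists_odd_pow_mem U0 (b := g * y * (f g)⁻¹) fun u hu => by
    have h4 := (hg' _).1 (hU' _ ((hg' (g⁻¹ * f u * g)).2 (by simpa [mul_assoc] using hU u hu)))
    simpa [e0, mul_assoc] using h4
  generalize hb : g * y * (f g)⁻¹ = b at hm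
  have e4 : f b = b⁻¹ := by
    rw [← hb, map_mul, map_mul, map_inv, e0, eq_inv_of_mul_eq_one_right hy]; group
  obtain ⟨w, e5⟩ := h1 _ hm (by rw [map_pow, e4, inv_pow, mul_inv_cancel])
  refine ⟨w * b ^ m * g, ?_⟩
  rw [map_mul, map_mul, map_pow, e4, ← mul_inv_cancel_left w (f w), e5,
    show y = g⁻¹ * b * f g by rw [← hb]; group]
  group

namespace J2O

open CfsgLib.Comput CfsgLib.J2 CfsgLib.SylT CfsgLib.W2

noncomputable def ns : Net :=
  .cons 1 0x5050000051051510500005400 <| .cons 2 0x1312002133212130310202000 <| .cons 4 0x10a0a03090c060a00030e05 <|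
  .cons 8 0xd00063002c00ee004e0000 <| .cons 16 0x71c10000808600000000 <| .cons 32 0x4000000001c004900 <|
  .cons 64 0xf7c43c9c3 <| .cons 32 0xb000000003510e7cd <| .cons 16 0xf9330000e80a00007804 <|
  .cons 8 0x1000a300e6001a00a60044 <| .cons 4 0x90a020305040a020603020e <| .cons 2 0x3312022113212110112222020 <|
  .cons 1 0x154000041455514510005411 .nil

noncomputable def W : List Net := Q.W ++ [ns]

theorem W_ok : allL (Net.ok 100) W = true := by decide +kernel

noncomputable abbrev g : ℕ → Equiv.Perm (Fin 100) := permG 100 W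

theorem M : SM g 100 (finPt 100) (stepN W) := SM.perm W_ok (by norm_num)
theorem V : WM g (stepT 100 7 W) (idTab 100 7) := WM.perm W_ok (by norm_num)

theorem g_eq (m : ℕ) (h : Nat.testBit 0x1fffff m = true) : q m = g m := by
  have h1 : m < 21 := by
    by_contra h1
    rw [Nat.testBit_lt_two_pow (lt_of_lt_of_le (by norm_num) (Nat.pow_le_pow_right two_pos (not_lt.1 h1)))] at h
    exact Bool.false_ne_true h
  interval_cases m <;> rfl

theorem ev_eq {w : ℕ} (h : inA 0x1fffff w = true) : ev q w = ev g w := MultC.evF_congr g_eq h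

theorem mem {w : ℕ} (h : inA 0x1fffff w = true) : ev g w ∈ QG := ev_eq h ▸ ev_mem_of_all q_mem w

noncomputable def s : Equiv.Perm (Fin 100) := ev g 22

theorem eq2 {a b c d : ℕ} (h : eqChk (stepT 100 7 W) (idTab 100 7) ([a, b], [c, d]) = true) :
    ev g a * ev g b = ev g c * ev g d := (evL_two _ _ _).symm.trans ((V.holds h).trans (evL_two _ _ _))

theorem ss : s * s = 1 := (eq2 (c := 0) (d := 0) (by decide +kernel)).trans (mul_one _)

theorem s_norm : s ∈ normalizer (QG : Set (Equiv.Perm (Fin 100))) := by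
  have k : ∀ w v, band (band (inA 0x1fffff w) (inA 0x1fffff v))
      (eqChk (stepT 100 7 W) (idTab 100 7) ([22, w], [v, 22])) = true →
      ev q w ∈ QG.comap (MulAut.conj s).toMonoidHom := fun w v h => by
    simp only [band_eq_true] at h
    show s * ev q w * s⁻¹ ∈ QG
    rw [ev_eq h.1.1, s, eq2 h.2, mul_inv_cancel_right]
    exact mem h.1.2
  refine mem_normalizer_fintype fun x hx => (cl_le.2 ?_ : QG ≤ QG.comap (MulAut.conj s).toMonoidHom) hx
  simp only [Q.top, List.forall_mem_cons]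
  exact ⟨k _ 0x511041106 (by decide +kernel), k _ 2 (by decide +kernel), k _ 0x4110b04 (by decide +kernel),
    k _ 0x3110b03 (by decide +kernel), by simp⟩

noncomputable def f : MulAut QG := QG.normalizerMonoidHom ⟨s, s_norm⟩

theorem f_coe (x : QG) : (f x : Equiv.Perm (Fin 100)) = s * x * s⁻¹ := rfl

theorem ff : f * f = 1 := by
  rw [f, ← map_mul, ← map_one QG.normalizerMonoidHom]
  exact congrArg _ (Subtype.ext ss)

theorem mem_f {x : QG} : x ∈ fixedSubgroup f ↔ s * x = x * s := by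
  rw [mem_fix, Subtype.ext_iff, f_coe, mul_inv_eq_iff_eq_mul]

def us : List ℕ := [0x1405031212, 0x15120107, 0x130212, 14, 0x50306, 11, 17]

noncomputable def x (i : ℕ) : QG :=
  ⟨ev g (nth 0 us i), ev_nth_mem (fun u hu => mem (allL_sound (p := inA 0x1fffff) (by decide +kernel) u hu)) i⟩

theorem ew_x (l : List ℕ) : (ew x l : QG) = evL g (l.map (nth 0 us)) :=
  (map_ew QG.subtype x l).trans (by rw [ew, evL, List.map_map]; rfl)

noncomputable def lw (v : ℕ) : List ℕ := [2, 3, 4, 5, 6, 0, 1].filter fun i => tb v (nth 0 [5, 6, 1, 2, 3, 4, 0] i)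

def wit : List ℕ := [0, 0x10a0306, 0, 0, 0x103010a, 0x1031501, 0, 0, 0, 0, 0x508, 0x50306, 0, 0, 0x1041204, 0x1151204,
  0x30c04, 0x1030108, 0, 0, 0, 0, 0, 0, 0, 0, 0x1030901, 0x5030109, 0, 0, 0, 0, 0, 0, 0, 0, 0, 0, 0, 0, 0, 0, 0, 0, 0, 0,
  0, 0, 0, 0, 0, 0, 0, 0, 0, 0, 0, 0, 0, 0, 0, 0, 0, 0, 0x3051315, 0x13150614, 0x5040f04, 0x140505, 0, 0, 0, 0, 0x3010a,
  0x3010a0f, 0, 0, 0, 0, 0, 0, 0, 0, 0, 0, 0x1051412, 0x4120a15, 0x14010c08, 0x30a1409, 0, 0, 0, 0, 0x301020a, 0x3010a0b]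

noncomputable def mv (l : List ℕ) (a : ℕ) : Bool := band (Nat.ble (Nat.succ a) 100)
  (Nat.beq (Nat.land (actL (stepN W) l (Nat.shiftLeft 1 a)) (actL (stepN W) [] (Nat.shiftLeft 1 a))) 0)

theorem chk : allLt (fun v => or (or (mv ((lw v).map (nth 0 us) ++ 22 :: ((lw v).map (nth 0 us) ++ [22])) 0)
    (mv ((lw v).map (nth 0 us) ++ 22 :: ((lw v).map (nth 0 us) ++ [22])) 1))
    (band (inA 0x1fffff (nth 0 wit v)) (eqChk (stepT 100 7 W) (idTab 100 7)
      (nth 0 wit v :: ((lw v).map (nth 0 us) ++ [22]), [22, nth 0 wit v])))) 128 = true := by decide +kernel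

theorem card_QG : Nat.card QG = 604800 := Q.card_perm

instance : IsSimpleGroup QG := have := simple_J2; isoQ.symm.isSimpleGroup

theorem conj_inj : Function.Injective (MulAut.conj : QG →* MulAut QG) :=
  conj_injective_of ((IsSimpleGroup.eq_bot_or_eq_top_of_normal (center QG) inferInstance).resolve_right fun h => by
    obtain ⟨a, b, e⟩ := exists_ne_comm_of_simple (S := QG) (by rw [card_QG]; norm_num)
    exact e (mem_center_iff.1 (h.ge (mem_top b)) a))

theorem h1 (y : QG) (hy : y * f y = 1) : ∃ u, u⁻¹ * f u = y := by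
  have c : ∀ i < 7, eqChk (stepT 100 7 W) (idTab 100 7) ([nth 0 us i, nth 0 us i], [0, 0]) = true ∧ ∀ j < 7, i < j →
      eqChk (stepT 100 7 W) (idTab 100 7) ([nth 0 us i, nth 0 us j],
        (TJ.pcj i j).map (nth 0 us) ++ [nth 0 us i]) = true := by decide +kernel
  obtain ⟨φ, hφ⟩ := TJ.exists_hom (x := x) fun i hi => ⟨Subtype.ext ((eq2 (c i hi).1).trans (mul_one _)),
    fun j hj hij => Subtype.ext ((evL_two _ _ _).symm.trans ((V.holds ((c i hi).2 j hj hij)).trans (by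
      rw [evL_append, evL_one, coe_mul, ew_x]; rfl)))⟩
  have hi : Function.Injective φ := TJ.inj_of fun h => JT.ne_of_chk M (l := [17]) (l' := []) 1 (by decide +kernel)
    ((evL_one _ _).trans (congrArg Subtype.val ((hφ 6 (by norm_num)).symm.trans h)))
  have hw : ∀ v, φ (ew TJ.pg (lw v)) = ew x (lw v) := fun v => by
    rw [map_ew, ew, ew, List.map_congr_left fun i hi => hφ i ?_]
    exact (by decide : ∀ i ∈ [2, 3, 4, 5, 6, 0, 1], i < 7) i (List.mem_of_mem_filter hi)
  have hc : Nat.card φ.range = 2 ^ 7 := by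
    rw [← Nat.card_congr (MonoidHom.ofInjective hi).toEquiv, TJ.card_T]; rfl
  refine h1_of_sylow conj_inj ff ((IsPGroup.of_card hc).toSylow ?_) ?_ ?_ y hy
  · have h3 := φ.range.card_mul_index
    rw [hc, card_QG] at h3
    omega
  · have k : ∀ i < 7, ∀ v, eqChk (stepT 100 7 W) (idTab 100 7) ([22, nth 0 us i], (lw v).map (nth 0 us) ++ [22]) = true →
        TJ.pg i ∈ φ.range.comap (f.toMonoidHom.comp φ) := fun i hi v h => ⟨ew TJ.pg (lw v), Subtype.ext (by
      have h1 := (evL_two _ _ _).symm.trans ((V.holds h).trans (evL_append _ _ _))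
      show _ = (f (φ _) : Equiv.Perm (Fin 100))
      rw [hw, hφ i hi, ew_x, f_coe, eq_mul_inv_iff_mul_eq]
      exact (h1.trans (by rw [evL_one]; rfl)).symm)⟩
    rintro _ ⟨p, rfl⟩
    exact (TG.eq_top_of_genB TJ.gen3 (S := φ.range.comap (f.toMonoidHom.comp φ)) (by
      simp only [List.forall_mem_cons]
      exact ⟨k 2 (by norm_num) 8 (by decide +kernel), k 0 (by norm_num) 97 (by decide +kernel),
        k 1 (by norm_num) 64 (by decide +kernel), by simp⟩)).ge (mem_top p)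
  · rintro _ ⟨p, rfl⟩ h
    have e : ∀ p : TJ, ew TJ.pg (lw p.v) = p := by decide +kernel
    have h1 := allLt_sound chk _ p.v_lt
    rw [← e p, hw] at h ⊢
    have h2 : evL g ((lw p.v).map (nth 0 us) ++ 22 :: ((lw p.v).map (nth 0 us) ++ [22])) = evL g [] := by
      have h3 := congrArg Subtype.val h
      rw [coe_mul, f_coe, ew_x, inv_eq_of_mul_eq_one_right ss] at h3
      rw [evL_append, evL_cons, evL_append, evL_one, ← mul_assoc (ev g 22)]
      exact h3
    simp only [Bool.or_eq_true, band_eq_true] at h1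
    rcases h1 with (h1 | h1) | h1
    · exact absurd h2 (JT.ne_of_chk M 0 h1)
    · exact absurd h2 (JT.ne_of_chk M 1 h1)
    · have h3 : evL g (_ :: _) = evL g [_, _] := V.holds h1.2
      rw [evL_cons, evL_append, evL_one, evL_two] at h3
      refine ⟨⟨_, mem h1.1⟩, Subtype.ext ?_⟩
      rw [coe_mul, coe_inv, f_coe, ew_x, s, ← h3]
      group

def adj : List ℕ := [
  0, 0x188, 0x208, 0x18088, 0x18108, 0, 0x18888, 0x20108, 0xa88, 0x1808212, 0xa0088, 0x18a88, 0x20492, 0x18408,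
  0x18312, 0x20308, 0x1850308, 0xa0308, 0xa8108, 0x20988, 0x18808, 0x1808a88, 0xa008108, 0xa008188, 0x1808512,
  0x18289ac, 0x20288, 0x1808888, 0x1808688, 0x1840088, 0x1828788, 0x1808308, 0x18517, 0x18588, 0x18488, 0x1808588,
  0x1808292, 0xa028412, 0x1828492, 0xa810092, 0x18688, 0x1810288, 0x18288, 0x1848997, 0x1878208, 0x1858192, 0xa008312,
  0x1838512, 0x2090a88, 0xa090512, 0x1828288, 0x1808708, 0x1850692, 0x1890717, 0x20908, 0x1840508, 0x1898208,
  0x1850812, 0x1840912, 0x2048a08, 0x1808412, 0x1868192, 0xa8292, 0x1830a88, 0xa8317, 0xa030508, 0x20888, 0x1810488,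
  0x20408, 0xa008297, 0xa090497, 0x1828112, 0x18708, 0xa028388, 0xa0988, 0x18788, 0x1808788, 0x1808908, 0x1808608,
  0xa0282ac, 0xa0288, 0x1858308, 0xa0908, 0x18992, 0xa8488, 0xa8508, 0xa008588, 0x1850a08, 0xa030912, 0xa008517,
  0x1808808, 0x20808, 0x1890592, 0x1828912, 0x20588, 0xa8408, 0x1838212, 0x18917, 0x18388, 0x1810388]

theorem chk2 : allLt (fun p => or (or (Nat.beq p 0) (Nat.beq p 5)) (force (Nat.div (nth 0 adj p) 128) fun w =>
    force (Nat.shiftLeft 1 (Nat.mod (nth 0 adj p) 128)) fun c => band (band (inA 0x1fffff w)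
      (Nat.ble (Nat.succ (Nat.mod (nth 0 adj p) 128)) 100)) (band (band (Nat.beq (act (stepN W) w (Nat.shiftLeft 1 p)) 1)
      (Nat.beq (act (stepN W) 22 c) c)) (Nat.beq (Nat.land (act (stepN W) w c) 0x183f58663e90350a000e60520) 0))))
    100 = true := by decide +kernel

theorem stab0 {y : Equiv.Perm (Fin 100)} (h : y ∈ QG) (h0 : y • finPt 100 0 = finPt 100 0) : y ∈ cl q Q.L0.hs :=
  (Q.good_0 Q.M Q.E).1.stab y (Q.top_eq Q.E ▸ h) 1 (one_mem _) (h0.trans (one_smul _ _).symm)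

theorem orb {y : QG} (h : y ∈ fixedSubgroup f) :
    y • finPt 100 0 = finPt 100 0 ∨ y • finPt 100 0 = finPt 100 5 := by
  have h1 := allLt_sound chk2 _ (y • finPt 100 0).2
  simp only [Bool.or_eq_true, force_eq, band_eq_true] at h1
  rcases h1 with (h1 | h1) | ⟨⟨h1, h2⟩, ⟨h3, h4⟩, h5⟩
  · exact .inl (Fin.ext (Nat.eq_of_beq_eq_true h1))
  · exact .inr (Fin.ext (Nat.eq_of_beq_eq_true h1))
  exfalso
  generalize Nat.div _ _ = w at *
  generalize Nat.mod _ _ = c at *
  have hc : c < 100 := Nat.le_of_ble_eq_true h2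
  have h6 := M.smul_pt (y • finPt 100 0).2 (b := 0) (by norm_num) h3
  rw [finPt_coe, Subgroup.smul_def, ← mul_smul] at h6
  have h7 := Q.M.closed_sound (S := 0x183f58663e90350a000e60520) (by decide +kernel) _
    (stab0 (mul_mem (mem h1) y.2) h6)
  have h8 : finPt 100 ((y : Equiv.Perm (Fin 100))⁻¹ • finPt 100 c).1 ∈ sem 100 (finPt 100) 0x183f58663e90350a000e60520 :=
    M.mem_of_fixOK (z := 22) (A := 0x889056c65d9337bfedf) (by decide +kernel) (Fin.is_lt _) (by
      rw [finPt_coe, ← mul_smul, show ev g 22 * (y : Equiv.Perm (Fin 100))⁻¹ = _ from mem_f.1 (inv_mem h), mul_smul]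
      exact congrArg _ (M.smul_pt hc hc h4))
  have h9 := sem_land M (act (stepN W) w (1 <<< c)) 0x183f58663e90350a000e60520
  rw [show act (stepN W) w (1 <<< c) &&& _ = 0 from Nat.eq_of_beq_eq_true h5, sem_zero, M.sem_act,
    sem_single _ hc] at h9
  refine Set.notMem_empty (ev g w • finPt 100 c) (h9 ▸ ⟨⟨_, rfl, rfl⟩, ?_⟩)
  rw [← h7]
  exact ⟨_, h8, by simp only [finPt_coe, mul_smul, smul_inv_smul]⟩

theorem s0 : s • finPt 100 0 = finPt 100 5 := M.smul_pt (by norm_num) (by norm_num) (by decide +kernel)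

theorem fix_eq : fixedSubgroup f ⊓ MulAction.stabilizer QG (finPt 100 0) = (cl q Q.L1.hs).subgroupOf QG := by
  ext y
  rw [mem_subgroupOf]
  refine ⟨fun h => (Q.good_1 Q.M Q.E).1.stab _ (stab0 y.2 h.2) 1 (one_mem _) ?_, fun h => ⟨mem_f.2 ?_, ?_⟩⟩
  · rw [one_smul]
    show (y : Equiv.Perm (Fin 100)) • finPt 100 5 = finPt 100 5
    rw [← s0, ← mul_smul, ← mem_f.1 h.1, mul_smul]
    exact congrArg _ h.2
  · refine mem_centralizer_singleton_iff.1 ((cl_le.2 fun w hw => ?_ : cl q Q.L1.hs ≤ centralizer {s}) h) |>.symm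
    have k := allL_sound (p := fun w => band (inA 0x1fffff w)
      (eqChk (stepT 100 7 W) (idTab 100 7) ([w, 22], [22, w]))) (l := Q.L1.hs) (by decide +kernel) w hw
    rw [band_eq_true] at k
    rw [ev_eq k.1]
    exact mem_centralizer_singleton_iff.2 (eq2 k.2)
  · exact Q.M.fixes (ws := Q.L1.hs) (a := 0) (by decide +kernel) _ h

theorem card_K : Nat.card (fixedSubgroup f ⊓ MulAction.stabilizer QG (finPt 100 0) : Subgroup QG) = 168 := by
  rw [fix_eq, ← Q.card_2 Q.M Q.E]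
  exact Nat.card_congr (subgroupOfEquivOfLe (cl_le.2 fun w _ => ev_mem_of_all q_mem w)).toEquiv

theorem card_fix : 7 ∣ Nat.card (fixedSubgroup f) ∧ Nat.card (fixedSubgroup f) ∣ 336 := by
  have h1 : (MulAction.orbit (fixedSubgroup f) (finPt 100 0)).ncard ≤ 2 :=
    (Set.ncard_le_ncard (t := {finPt 100 0, finPt 100 5}) (by rintro _ ⟨y, rfl⟩; exact orb y.2)).trans
      ((Set.ncard_insert_le _ _).trans (by simp))
  have h2 : 0 < (MulAction.orbit (fixedSubgroup f) (finPt 100 0)).ncard :=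
    (Set.ncard_pos).2 ⟨_, MulAction.mem_orbit_self _⟩
  rw [card_eq_ncard_orbit_mul _ (finPt 100 0), card_K]
  generalize Set.ncard _ = m at *
  interval_cases m <;> norm_num

theorem card_comm : Nat.card (⁅fixedSubgroup f, fixedSubgroup f⁆ : Subgroup QG) ∣ 168 := by
  rw [← card_K]
  refine card_dvd_of_le (le_inf (commutator_le_self _) (commutator_le.2 fun a ha b hb => ?_))
  have k : ∀ y ∈ fixedSubgroup f, (y • finPt 100 0 = finPt 100 0 ∧ y • finPt 100 5 = finPt 100 5) ∨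
      (y • finPt 100 0 = finPt 100 5 ∧ y • finPt 100 5 = finPt 100 0) := fun y hy => by
    have e : y • finPt 100 5 = s • y • finPt 100 0 := by
      rw [← s0, Subgroup.smul_def, Subgroup.smul_def, ← mul_smul, ← mem_f.1 hy, mul_smul]
    refine (orb hy).imp (fun h => ⟨h, by rw [e, h, s0]⟩) fun h => ⟨h, ?_⟩
    rw [e, h, ← s0, ← mul_smul, ss, one_smul]
  rw [MulAction.mem_stabilizer_iff, commutatorElement_def, mul_smul, mul_smul, mul_smul]
  rcases k a ha with h1 | h1 <;> rcases k b hb with h2 | h2 <;>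
    simp only [inv_smul_eq_iff.2 h1.1.symm, inv_smul_eq_iff.2 h1.2.symm, inv_smul_eq_iff.2 h2.1.symm,
      inv_smul_eq_iff.2 h2.2.symm, h1.1, h1.2, h2.1, h2.2]

end J2O

end CfsgLib.QT3
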