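import Mathlib
import Cfsg.Agent.Lib.J2.Iso
import Cfsg.Agent.Lib.JT.Klein
import Cfsg.Prelude.Def_KGroupFacts

/-!
The double cover of `J2` and the centralizer of an involution of the second class.
-/

set_option autoImplicit false
set_option maxRecDepth 100000

namespace CfsgLib.QT3.J2O

section

open Cfsg Cfsg.Spor Subgroup CfsgLib.J2 Quaternion Matrix

theorem half_h (a b : ℍ[ℝ]) : (2⁻¹ : ℝ) • (a * (star icoH * (icoH * b))) = a * b := by
  rw [← mul_assoc (star icoH), star_mul_icoH, ← mul_smul_comm, ← one_div, half_smul_two]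

theorem rmat01 {a : ℍ[ℝ]} (h : star a * a = 1) : rmat ![icoH, icoH * a, 0] = !![0, -a, 0; -star a, 0, 0; 0, 0, 1] := by
  have h1 := half_h 1 1
  have h2 := half_h 1 a
  have h3 := half_h (star a) 1
  have h4 := half_h (star a) a
  ext1 s t
  fin_cases s <;> fin_cases t <;> simp_all [rmat, proj_apply, mul_assoc]

theorem rmat12 {a : ℍ[ℝ]} (h : star a * a = 1) : rmat ![0, icoH, icoH * a] = !![1, 0, 0; 0, 0, -a; 0, -star a, 0] := by
  have h1 := half_h 1 1
  have h2 := half_h 1 a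
  have h3 := half_h (star a) 1
  have h4 := half_h (star a) a
  ext1 s t
  fin_cases s <;> fin_cases t <;> simp_all [rmat, proj_apply, mul_assoc]

theorem minV3 {x y z : Ico} (h : Comput.band (lam x y z) (((x.nrm.add y.nrm).add z.nrm).beq ⟨4, 0⟩) = true) :
    MinV ![x.ev, y.ev, z.ev] := by
  rw [Comput.band_eq_true] at h
  refine ⟨(lam_iff _ _ _).2 h.1, qip_eq_four.2 ?_⟩
  have h1 := congrArg Zt.ev (Zt.beq_iff.1 h.2)
  rw [Zt.ev_add, Zt.ev_add, Ico.ev_nrm, Ico.ev_nrm, Ico.ev_nrm] at h1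
  simpa [Zt.ev] using h1

def qJ : ℍ[ℝ] := ⟨0, 0, 1, 0⟩

theorem qc : qI.re = 0 ∧ qI.imI = 1 ∧ qI.imJ = 0 ∧ qI.imK = 0 ∧ qJ.re = 0 ∧ qJ.imI = 0 ∧ qJ.imJ = 1 ∧ qJ.imK = 0 :=
  ⟨rfl, rfl, rfl, rfl, rfl, rfl, rfl, rfl⟩

theorem exists_beta : ∃ β : twoJ2, β * β = ⟨negP, negP_mem⟩ := by
  let J : Ico := ⟨⟨2, -1⟩, ⟨-1, 1⟩, ⟨0, 0⟩, ⟨2, -2⟩⟩
  have hJ : J.ev = qJ := by
    have := tau_sq
    ext <;> simp [J, Ico.ev_re, Ico.ev_imI, Ico.ev_imJ, Ico.ev_imK, Zt.ev, qc] <;> nlinarith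
  have m1 := minV3 (x := .hh) (y := .mul .hh .one) (z := .zero) (by decide +kernel)
  have m2 := minV3 (x := .hh) (y := .mul .hh .eI) (z := .zero) (by decide +kernel)
  have m3 := minV3 (x := .zero) (y := .hh) (z := .mul .hh .one) (by decide +kernel)
  have m4 := minV3 (x := .zero) (y := .hh) (z := .mul .hh J) (by decide +kernel)
  simp only [Ico.ev_mul, Ico.ev_hh, Ico.ev_one, Ico.ev_zero, Ico.ev_eI, hJ] at m1 m2 m3 m4
  have u := ((un_fr m1).mul (un_fr m2)).mul ((un_fr m3).mul (un_fr m4))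
  rw [rmat01 (a := 1) (by simp), rmat01 (a := qI) (by ext <;> simp [qc]), rmat12 (a := 1) (by simp),
    rmat12 (a := qJ) (by ext <;> simp [qc])] at u
  refine ⟨⟨_, mul_mem (mul_mem (fr_mem m1) (fr_mem m2)) (mul_mem (fr_mem m3) (fr_mem m4))⟩,
    Subtype.ext ((u.mul u).eq ?_)⟩
  convert un_negP using 1
  ext1 s t
  fin_cases s <;> fin_cases t <;> simp [Matrix.mul_apply, Fin.sum_univ_three] <;> ext <;> simp [qc]

theorem model (h3 : commutator J2 = ⊤) :
    ∃ (σ : twoJ2 →* J2) (β : twoJ2), IsStemExtension σ ∧ σ β ≠ 1 ∧ σ (β * β) = 1 ∧ β * β ≠ 1 := by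
  obtain ⟨β, h⟩ := exists_beta
  have h1 : β * β ≠ 1 := fun e => negP_ne_one (congrArg Subtype.val (h.symm.trans e))
  have h2 : ∀ c ∈ center twoJ2, c * c = 1 := fun c hc => by
    rw [← sq, ← card_center]
    exact congrArg Subtype.val (pow_card_eq_one' (x := (⟨c, hc⟩ : center twoJ2)))
  refine ⟨QuotientGroup.mk' _, β, ⟨QuotientGroup.mk'_surjective _, (QuotientGroup.ker_mk' _).le, fun c hc => ?_⟩,
    fun e => h1 (h2 _ ((QuotientGroup.eq_one_iff _).1 e)), (QuotientGroup.eq_one_iff _).2 (h ▸ negP_center), h1⟩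
  rw [QuotientGroup.ker_mk'] at hc
  rcases J2.mem_center_iff.1 hc with rfl | rfl
  · exact one_mem _
  obtain ⟨γ, h4, h5⟩ : QuotientGroup.mk' _ β ∈ (commutator twoJ2).map (QuotientGroup.mk' (center twoJ2)) := by
    rw [map_commutator_eq, MonoidHom.range_eq_top.2 (QuotientGroup.mk'_surjective _)]
    exact h3.ge (mem_top _)
  obtain ⟨c, h6, rfl⟩ := (QuotientGroup.mk'_eq_mk' _).1 h5
  rw [← h, mul_assoc, ← mul_assoc c, ← Subgroup.mem_center_iff.1 h6 γ, mul_assoc, h2 c h6, mul_one]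
  exact mul_mem h4 h4

end

open Cfsg Subgroup CfsgLib.JT CfsgLib.Dickson CfsgLib.Comput
open scoped commutatorElement

variable {Y : Type*} [Group Y]

/-- the centralizer of an involution of the second class -/
structure KB (z d : Y) (φ : alternatingGroup (Fin 4) →* Y) (ψ : alternatingGroup (Fin 5) →* Y) : Prop where
  i4 : Function.Injective φ
  i5 : Function.Injective ψ
  cm : ∀ a b, Commute (φ a) (ψ b)
  hd : φ a4a = d
  za : IsConj z (ψ a5a)
  fu : IsConj d (ψ a5a * d)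
  le : Nat.card (centralizer ({d} : Set Y)) ≤ 240

theorem KB.cen [Finite Y] {z d : Y} {φ : alternatingGroup (Fin 4) →* Y} {ψ : alternatingGroup (Fin 5) →* Y}
    (h : KB z d φ ψ) : Nat.card (centralizer ({d} : Set Y)) = 240 ∧
      ∀ x, x * d = d * x → ∃ v b, x = φ (kap v) * ψ b := by
  obtain ⟨k1, k2, -⟩ := kap_facts
  let Ψ := φ.noncommCoprod ψ h.cm
  have iΨ : Function.Injective Ψ := (injective_iff_map_eq_one _).2 fun ⟨a, b⟩ e => by
    have e1 : ψ b = φ a⁻¹ := by rw [map_inv]; exact eq_inv_of_mul_eq_one_right e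
    have e2 : b ∈ center _ := mem_center_iff.2 fun c => h.i5 (by rw [map_mul, map_mul, e1, (h.cm _ _).eq])
    rw [alternatingGroup.center_eq_bot (by simp), mem_bot] at e2
    subst e2
    exact Prod.ext (h.i4 (by simpa using e1.symm)) rfl
  let Θ := Ψ.comp (kap.prodMap (MonoidHom.id _))
  have iΘ : Function.Injective Θ :=
    iΨ.comp (Function.Injective.prodMap ((injective_iff_map_eq_one _).2 k1) Function.injective_id)
  have cΘ : Nat.card Θ.range = 240 := by
    rw [← Nat.card_congr (MonoidHom.ofInjective iΘ).toEquiv, Nat.card_prod, card_A5]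
    simp
  have eΘ : Θ.range = centralizer {d} := by
    refine Core.eq_of_le_of_card_le ?_ (cΘ ▸ h.le)
    rintro _ ⟨⟨v, b⟩, rfl⟩
    refine mem_centralizer_singleton_iff.2 (h.hd ▸ Commute.mul_left ?_ (h.cm _ b).symm)
    show φ (kap v) * φ _ = φ _ * φ (kap v)
    rw [← map_mul, k2, map_mul]
  refine ⟨eΘ ▸ cΘ, fun x hx => ?_⟩
  obtain ⟨⟨v, b⟩, rfl⟩ := eΘ.ge (mem_centralizer_singleton_iff.2 hx)
  exact ⟨v, b, rfl⟩

theorem exists_kb [Finite Y] {Q : Subgroup Y} {z : Y} {q : Fin 5 → Y} {u n y r : Y} [MulAction Y (Fin 100)]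
    [MulAction Y (Fin 315)] (H : Hyp Q z q u n y r) {t : Y} (ht : IsConj u t) : ∃ φ ψ, KB z t φ ψ := by
  obtain ⟨c, rfl⟩ := isConj_iff.1 ht
  have k := H.wm.allHold (l := [([7, 7], []), ([9, 9, 9], []), (List.replicate 3 0x709, []), ([0x709], [7, 9]),
    ([6, 6], []), (List.replicate 3 0x5080c080b080b08, []), (List.replicate 5 0x605080c080b080b08, []),
    ([0x605080c080b080b08], [6, 0x5080c080b080b08]), ([7, 6], [6, 7]), ([9, 6], [6, 9]),
    ([7, 0x5080c080b080b08], [0x5080c080b080b08, 7]), ([9, 0x5080c080b080b08], [0x5080c080b080b08, 9]),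
    ([0x204, 7], [6, 7, 0x204])])
    (by decide +kernel)
  simp only [AllHold, List.forall_mem_cons, Eqn.Holds, evL_replicate, evL_one, evL_two, evL_three, evL_nil,
    evE] at k
  obtain ⟨k1, k2, k3, k4, k5, k6, k7, k8, k9, k10, k11, k12, k13, -⟩ := k
  obtain ⟨φ, p1, p2⟩ := exists_hom_A4 (a := u) (b := y) (by rw [sq, k1]) (by rw [pow_succ, sq, k2]) (k4 ▸ k3)
  obtain ⟨ψ, s1, s2⟩ := exists_hom_A5 (a := q 4) (by rw [sq, k5]) k6 (k8 ▸ k7)
  have hc : ∀ a b, Commute (φ a) (ψ b) := fun a b => by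
    have : ∀ x, u * x = x * u → y * x = x * y → φ a * x = x * φ a := fun x h1 h2 =>
      mem_centralizer_singleton_iff.1 ((a4_gen (K := (centralizer {x}).comap φ)
        (mem_centralizer_singleton_iff.2 (p1 ▸ h1)) (mem_centralizer_singleton_iff.2 (p2 ▸ h2))).ge (mem_top a))
    exact (mem_centralizer_singleton_iff.1 ((a5_gen (K := (centralizer {φ a}).comap ψ)
      (mem_centralizer_singleton_iff.2 (s1 ▸ (this _ k9 k10).symm))
      (mem_centralizer_singleton_iff.2 (s2 ▸ (this _ k11 k12).symm))).ge (mem_top b))).symm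
  have h4 := H.fr.five.ne_one H.pre 4
  let j := (MulAut.conj c).toMonoidHom
  refine ⟨j.comp φ, j.comp ψ, (MulAut.conj c).injective.comp (a4_hom_injective φ (p1 ▸ H.u_ne_one)),
    (MulAut.conj c).injective.comp (a5_hom_injective ψ (s1 ▸ h4)), fun a b => (hc a b).map j, by simp [j, p1],
    (H.isConj_of_mem (H.fr.five.mem 4) k5 h4).trans (isConj_iff.2 ⟨c, by simp [j, s1]⟩), ?_, ?_⟩
  · have := j.map_isConj (isConj_iff.2 ⟨_, mul_inv_eq_of_eq_mul k13⟩)
    rwa [← s1, map_mul] at this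
  rw [Fgs.cent_conj, card_map_of_injective (MulAut.conj c).injective]
  exact H.card_le

variable {z d : Y} {φ : alternatingGroup (Fin 4) →* Y} {ψ : alternatingGroup (Fin 5) →* Y}

theorem KB.mem_V [Finite Y] (h : KB z d φ ψ) {x : Y} (h1 : x * d = d * x) (h2 : ∀ b, x * ψ b = ψ b * x) :
    ∃ v, x = φ (kap v) := by
  obtain ⟨v, b, rfl⟩ := h.cen.2 x h1
  have e2 : b ∈ center _ := mem_center_iff.2 fun c => h.i5 (by
    have := h2 c
    rw [← mul_assoc, ← (h.cm _ c).eq, mul_assoc, mul_assoc, mul_right_inj] at this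
    rw [map_mul, map_mul, this])
  rw [alternatingGroup.center_eq_bot (by simp), mem_bot] at e2
  exact ⟨v, by rw [e2, map_one, mul_one]⟩

theorem KB.comm_le [Finite Y] (h : KB z d φ ψ) : ⁅centralizer {d}, centralizer {d}⁆ ≤ ψ.range :=
  commutator_le.2 fun x hx y hy => by
    obtain ⟨v, b, rfl⟩ := h.cen.2 x (mem_centralizer_singleton_iff.1 hx)
    obtain ⟨w, c, rfl⟩ := h.cen.2 y (mem_centralizer_singleton_iff.1 hy)
    have k : ∀ v w a, Commute (φ (kap v)) (φ (kap w) * ψ a) := fun v w a =>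
      (((Commute.all v w).map kap).map φ).mul_right (h.cm _ _)
    refine ⟨⁅b, c⁆, ?_⟩
    rw [map_commutatorElement, commutatorElement_def, commutatorElement_def, mul_inv_rev, ← mul_assoc, mul_assoc (φ _) (ψ b),
      mul_assoc (φ (kap v)), (((h.cm _ b).mul_right (k v w c)).mul_right (h.cm _ b).inv_right).eq, mul_inv_cancel_right,
      mul_inv_rev, ← mul_assoc (ψ b), ← (h.cm _ b).eq, ← mul_assoc, mul_assoc (φ _), mul_assoc (φ _), mul_assoc (φ _),
      ((((h.cm _ b).mul_right (h.cm _ c)).mul_right (h.cm _ b).inv_right).mul_right (h.cm _ c).inv_right).eq,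
      mul_inv_cancel_right]

theorem KB.not_sq [Finite Y] (h : KB z d φ ψ) (r : Y) : r * r ≠ d := fun e => by
  obtain ⟨v, b, rfl⟩ := h.cen.2 r (by rw [← e, mul_assoc])
  have h1 : φ (kap v) * ψ b * (φ (kap v) * ψ b) = ψ (b * b) := by
    rw [mul_assoc, ← mul_assoc (ψ b), ← (h.cm _ b).eq, ← mul_assoc, ← mul_assoc, ← map_mul, ← sq, kap_facts.2.2.2.2.1,
      map_one, one_mul, map_mul]
  have h2 : b * b ∈ center _ := mem_center_iff.2 fun c => h.i5 (by
    rw [map_mul ψ c, map_mul ψ _ c, ← h1, e, ← h.hd, (h.cm _ c).eq])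
  rw [alternatingGroup.center_eq_bot (by simp), mem_bot] at h2
  rw [h1, h2, map_one, ← h.hd, eq_comm, map_eq_one_iff _ h.i4] at e
  exact absurd e (by decide)

end CfsgLib.QT3.J2O
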