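import Mathlib
import Cfsg.Agent.Lib.QT3.Defs
import Cfsg.Agent.Lib.QT2.ListA
import Cfsg.Agent.Lib.QT2.SetA

/-!
Groups of Lie type in characteristic two with odd ranks at most two.
-/

set_option autoImplicit false
set_option maxRecDepth 100000

namespace CfsgLib.QT3

open Cfsg Subgroup CfsgLib.LBal CfsgLib.LAE CfsgLib.QT2
open scoped MatrixGroups commutatorElement

namespace R3

open Cfsg.Lie CfsgLib.RGD CfsgLib.Twist CfsgLib.LieAll CfsgLib.ChevAut CfsgLib.ClSys CfsgLib.Weyl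
  CfsgLib.Chev Matrix CfsgLib.QT1.Cyc
open CfsgLib.Stein (rhoE6 epsE6)

section Abstract

variable {G H : Type*} [Group G] [Group H] {p : ℕ}

theorem congr (h : R2 G) (e : G ≃* H) : R2 H := fun p h1 h2 => (SylTools.pRankLE_congr e).1 (h p h1 h2)

theorem sub (h : R2 G) (K : Subgroup G) : R2 K := fun p h1 h2 => SylTools.pRankLE_subgroup (h p h1 h2) K

/-- three commuting elements of order `p`, separated by inverting elements -/
theorem not_r2 [Finite G] (hp : p.Prime) (h2 : p ≠ 2) {K : Subgroup G} {a b c u v : G} (ka : a ∈ K) (kb : b ∈ K)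
    (kc : c ∈ K) (ha : a ^ p = 1) (hb : b ^ p = 1) (hc : c ^ p = 1) (ab : Commute a b) (ac : Commute a c)
    (bc : Commute b c) (a1 : a ≠ 1) (b1 : b ≠ 1) (c1 : c ≠ 1) (ua : u * a * u⁻¹ = a⁻¹) (ub : Commute u b)
    (uc : Commute u c) (vb : v * b * v⁻¹ = b⁻¹) (vc : Commute v c) : ¬ R2 K := fun h => by
  have k := St.rank_one hp (h p hp h2) (X := K ⊓ (centralizer {a} ⊓ centralizer {u})) inf_le_left ka ha
    (fun y hy => St.mc1.1 hy.2.1) fun e => a1 (eq_one_of_sq hp h2 ha (by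
      rw [← St.mc1.1 e.2.2, mul_inv_cancel_right] at ua
      exact mul_eq_one_iff_eq_inv.2 ua))
  obtain ⟨n, e⟩ := mem_zpowers_of hp k (a := ⟨b, kb, St.mc1.2 ab.symm, St.mc1.2 ub.symm⟩)
    (b := ⟨c, kc, St.mc1.2 ac.symm, St.mc1.2 uc.symm⟩) (Subtype.ext hb) (Subtype.ext hc) (Subtype.ext bc)
    fun e => b1 (congrArg Subtype.val e)
  exact not_mem_of_inv hp h2 hc c1 vb vc ⟨n, congrArg Subtype.val e⟩

theorem not_r2_quot [Finite G] (hp : p.Prime) (h2 : p ≠ 2) {a b c u v w : G} (ha : a ^ p = 1) (hb : b ^ p = 1)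
    (hc : c ^ p = 1) (ab : Commute a b) (ac : Commute a c) (bc : Commute b c) (a1 : a ≠ 1) (b1 : b ≠ 1)
    (c1 : c ≠ 1) (ua : u * a * u⁻¹ = a⁻¹) (ub : Commute u b) (uc : Commute u c) (vb : v * b * v⁻¹ = b⁻¹)
    (vc : Commute v c) (wc : w * c * w⁻¹ = c⁻¹) : ¬ R2 (G ⧸ center G) := fun h => by
  let π := QuotientGroup.mk' (center G)
  have k1 : ∀ {a : G}, a ^ p = 1 → π a ^ p = 1 := fun ha => by rw [← map_pow, ha, map_one]
  have k2 : ∀ {a u : G}, u * a * u⁻¹ = a⁻¹ → π u * π a * (π u)⁻¹ = (π a)⁻¹ := fun hu => by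
    rw [← map_inv, ← map_mul, ← map_mul, hu, map_inv]
  have k3 : ∀ {a u : G}, a ^ p = 1 → a ≠ 1 → u * a * u⁻¹ = a⁻¹ → π a ≠ 1 := fun {a u} ha h1 hu e =>
    h1 (eq_one_of_sq hp h2 ha (by
      rw [mem_center_iff.1 ((QuotientGroup.eq_one_iff _).1 e) u, mul_inv_cancel_right] at hu
      exact mul_eq_one_iff_eq_inv.2 hu))
  exact not_r2 hp h2 (mem_top _) (mem_top _) (mem_top _) (k1 ha) (k1 hb) (k1 hc) (ab.map π) (ac.map π) (bc.map π)
    (k3 ha a1 ua) (k3 hb b1 vb) (k3 hc c1 wc) (k2 ua) (ub.map π) (uc.map π) (k2 vb) (vc.map π) (sub h ⊤)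

theorem blk [Finite G] {M : Subgroup G} {u v u' v' u'' v'' : G} (h : Blk M u v) (h' : Blk M u' v')
    (h'' : Blk M u'' v'') (c : C4 u v u' v') (c' : C4 u v u'' v'') (c'' : C4 u' v' u'' v'') : ¬ R2 M :=
  have k : ∀ {u v u' v' : G}, C4 u v u' v' → Commute (u * v) (u' * v') := fun c =>
    (c.ll.mul_right c.lr).mul_left (c.rl.mul_right c.rr)
  not_r2 Nat.prime_three (by decide) (mul_mem h.l h.r) (mul_mem h'.l h'.r) (mul_mem h''.l h''.r) h.s3.cube h'.s3.cube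
    h''.s3.cube (k c) (k c') (k c'') h.s3.ne_one h'.s3.ne_one h''.s3.ne_one h.s3.inv (c.ll.mul_right c.lr)
    (c'.ll.mul_right c'.lr) h'.s3.inv (c''.ll.mul_right c''.lr)

end Abstract

theorem mon {n : Type*} [Fintype n] [DecidableEq n] {F : Type*} [Field F] {G : Type*} [Group G] [Finite G] {r : ℕ}
    {ρ : G →* Matrix n n F} (h : Mon ρ r) (hr : r.Prime) (h2 : r ≠ 2) {l : F} (h1 : l ≠ 1)
    (hl : l ^ r = 1) {i j k m : n} (e : [i, j, k, m].Nodup) : ¬ R2 (G ⧸ center G) := by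
  have h0 : l ≠ 0 := fun e => by simp [e, hr.ne_zero] at hl
  simp only [List.nodup_cons, List.mem_cons, List.not_mem_nil, or_false, not_or, not_false_eq_true,
    List.nodup_nil, and_true] at e
  obtain ⟨⟨n1, n2, n3⟩, ⟨n4, n5⟩, n6⟩ := e
  let d : n → n → n → F := fun i j => Pi.mulSingle i l * Pi.mulSingle j l⁻¹
  have k0 : ∀ a, d i j a * d i j (Equiv.swap i j a) = 1 ∧ d k m (Equiv.swap i j a) = d k m a ∧
      (d i k * d j m) (Equiv.swap i j a) = (d i k * d j m) a ∧ d k m a * d k m (Equiv.swap k m a) = 1 ∧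
      (d i k * d j m) (Equiv.swap k m a) = (d i k * d j m) a ∧
      (d i k * d j m) a * (d i k * d j m) ((Equiv.swap i k * Equiv.swap j m) a) = 1 := fun a => by
    refine ⟨?_, ?_, ?_, ?_, ?_, ?_⟩ <;>
      simp only [d, Pi.mul_apply, Pi.mulSingle_apply, Equiv.swap_apply_def, Equiv.Perm.mul_apply] <;>
      split_ifs <;> simp_all
  have k1 : ∀ i j a, d i j a ^ r = 1 := fun i j a => by
    simp only [d, Pi.mul_apply, Pi.mulSingle_apply]
    split_ifs <;> simp [mul_pow, hl]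
  have k2 : ∀ i j, ∏ a, d i j a = 1 := fun i j => by simp [d, Finset.prod_mul_distrib, h0]
  have k3 : ∀ a, (d i k * d j m) a ^ r = 1 := fun a => by rw [Pi.mul_apply, mul_pow, k1, k1, one_mul]
  choose P hP using h.perm
  obtain ⟨A, hA⟩ := h.diag _ (k1 i j) (k2 i j)
  obtain ⟨B, hB⟩ := h.diag _ (k1 k m) (k2 k m)
  obtain ⟨C, hC⟩ := h.diag _ k3 (by simp only [Pi.mul_apply, Finset.prod_mul_distrib, k2, one_mul])
  have pw : ∀ {A a}, ρ A = diagonal a → (∀ i, a i ^ r = 1) → A ^ r = 1 := fun hA ha => h.inj (by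
    rw [map_pow, hA, diagonal_pow, map_one, ← diagonal_one]
    exact congrArg _ (funext ha))
  have cm : ∀ {A B a b}, ρ A = diagonal a → ρ B = diagonal b → Commute A B := fun hA hB => h.inj (by
    simp only [map_mul, hA, hB, diagonal_mul_diagonal, mul_comm])
  have ne : ∀ {A a} i, ρ A = diagonal a → a i = l → A ≠ 1 := fun i hA ha e => h1 (by
    rw [e, map_one, ← diagonal_one] at hA
    exact ha.symm.trans (congrFun (diagonal_injective hA) i).symm)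
  have iv : ∀ {A a} σ, ρ A = diagonal a → (∀ i, a i * a (σ i) = 1) → P σ * A * (P σ)⁻¹ = A⁻¹ := fun σ hA hσ => by
    rw [mul_inv_eq_iff_eq_mul, eq_inv_mul_iff_mul_eq]
    refine h.inj ?_
    simp only [map_mul, hA, hP, perm_diag, ← Matrix.mul_assoc, diagonal_mul_diagonal, Function.comp_apply, hσ,
      diagonal_one, Matrix.one_mul]
  have fx : ∀ {A a} σ, ρ A = diagonal a → (∀ i, a (σ i) = a i) → Commute (P σ) A := fun {A a} σ hA hσ => h.inj (by
    rw [map_mul, map_mul, hA, hP, perm_diag, show a ∘ σ = a from funext hσ])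
  exact not_r2_quot hr h2 (pw hA (k1 _ _)) (pw hB (k1 _ _)) (pw hC k3) (cm hA hB) (cm hA hC) (cm hB hC)
    (ne i hA (by simp [d, n1])) (ne k hB (by simp [d, n6])) (ne i hC (by simp [d, n1, n2, n3]))
    (iv _ hA fun a => (k0 a).1) (fx _ hB fun a => (k0 a).2.1) (fx _ hC fun a => (k0 a).2.2.1)
    (iv _ hB fun a => (k0 a).2.2.2.1) (fx _ hC fun a => (k0 a).2.2.2.2.1) (iv _ hC fun a => (k0 a).2.2.2.2.2)

section St

variable {ι κ σ : Type} [Fintype κ] [DecidableEq κ] [Fintype σ] {F : Type*} [Field F] {G : Type*} [Group G]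

theorem cm_eps (E : EpsSys ι κ σ) (S : StSys E.toRootSys F G) {r s : ι} (h0 : E.ev r ⬝ᵥ E.ev s = 0)
    (hn : ∀ k, E.ev k ⬝ᵥ E.ev k < E.ev r ⬝ᵥ E.ev r + E.ev s ⬝ᵥ E.ev s) : Cm S r s := by
  have h : ∀ r s, E.ev r ⬝ᵥ E.ev s = 0 → (∀ k, E.ev k ⬝ᵥ E.ev k < E.ev r ⬝ᵥ E.ev r + E.ev s ⬝ᵥ E.ev s) →
      Commute (S.x r 1) (S.x s 1) := fun r s h0 hn => by
    have p1 := E.norm_pos r
    have p2 := E.norm_pos s
    refine commute_of_not_isSum S (fun e => ?_) (fun e => ?_) (fun k hk => ?_) _ _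
    · rw [e] at h0; omega
    · rw [e, show E.toRootSys.neg r = E.neg r from rfl, E.ev_neg, dotProduct_neg] at h0; omega
    · obtain ⟨a, b, ha, hb, e⟩ := E.isSum_iff.1 hk
      have := hn k
      rw [e] at this
      simp only [add_dotProduct, dotProduct_add, smul_dotProduct, dotProduct_smul, h0, dotProduct_comm (E.ev s) (E.ev r),
        smul_eq_mul] at this
      have ha' : (1 : ℤ) ≤ a * a := by exact_mod_cast Nat.mul_pos ha ha
      have hb' : (1 : ℤ) ≤ b * b := by exact_mod_cast Nat.mul_pos hb hb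
      nlinarith [mul_le_mul_of_nonneg_right ha' p1.le, mul_le_mul_of_nonneg_right hb' p2.le]
  have e : ∀ r, E.ev (E.toRootSys.neg r) = -E.ev r := E.ev_neg
  exact ⟨h _ _ h0 hn, h _ _ (by simp [e, h0]) (by simpa [e] using hn), h _ _ (by simp [e, h0]) (by simpa [e] using hn),
    h _ _ (by simp [e, h0]) (by simpa [e] using hn)⟩

theorem cm_D {m : ℕ} {hm : 2 ≤ m} (S : StSys (rootD hm) F G) {r s : MidR m} (h : evM r ⬝ᵥ evM s = 0) : Cm S r s :=
  cm_eps (epsD hm) S h fun k => by simp [epsD, evM_dot_self]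

theorem cm_C {m : ℕ} (S : StSys (rootC m) F G) {i j : Fin m} (h : i ≠ j) : Cm S (.inr (.inl i)) (.inr (.inl j)) :=
  cm_eps (epsBC m (.inr rfl)) S (by
    simp only [epsBC, evBC, Sum.elim_inr, smul_dotProduct, dotProduct_smul, eps_dot']
    simp [h]) fun k => by
    rcases k with k | k <;> simp [epsBC, evBC_dot_self]

theorem idt {Φ : RootSys ι κ} [Finite ι] [Finite G] [CharP F 2] {S : StSys Φ F G} (hS : Sharp S) {r s t : ι}
    (c : Cm S r s) (c' : Cm S r t) (c'' : Cm S s t) : ¬ R2 S.grp :=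
  have k : ∀ r, Blk S.grp (S.x r 1) (S.x (Φ.neg r) 1) := fun r => ⟨s3_root hS r, S.x_mem_grp _ _, S.x_mem_grp _ _⟩
  blk (k r) (k s) (k t) c c' c''

end St

variable {F : Type*} [Field F] [Fintype F] [CharP F 2]

theorem psl {n : ℕ} (hn : 3 < n) (h : Fintype.card F ≠ 2) : ¬ R2 PSL(n, F) := by
  have := Fintype.one_lt_card (α := F)
  obtain ⟨r, hr, h2, -, l, h1, hl⟩ := exists_root (F := F) (by omega) dvd_rfl
  exact mon (ρ := (Units.coeHom _).comp SpecialLinearGroup.toGL) ⟨fun _ _ e => Subtype.ext e,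
    fun d _ h => ⟨⟨diagonal d, by rwa [det_diagonal]⟩, rfl⟩, fun σ => ⟨⟨_, det_perm σ⟩, rfl⟩⟩ hr h2 h1 hl
    (i := ⟨0, by omega⟩) (j := ⟨1, by omega⟩) (k := ⟨2, by omega⟩) (m := ⟨3, hn⟩) (by simp)

theorem psu {n q : ℕ} (hF : Fintype.card F = q ^ 2) (hn : 3 < n) : ¬ R2 (PSU n F q) := by
  have := Unitary.two_le_q hF
  obtain ⟨r, hr, h2, ⟨c, hc⟩, l, h1, hl⟩ := exists_root (F := F) (m := q + 1) (by omega)
    ⟨q - 1, by rw [hF, ← Nat.sq_sub_sq]⟩
  refine mon (ρ := ((Units.coeHom _).comp SpecialLinearGroup.toGL).comp (SU n F q).subtype) ?_ hr h2 h1 hl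
    (i := ⟨0, by omega⟩) (j := ⟨1, by omega⟩) (k := ⟨2, by omega⟩) (m := ⟨3, hn⟩) (by simp)
  refine ⟨fun _ _ e => Subtype.ext (Subtype.ext e), fun d h1 h => ⟨⟨⟨diagonal d, by rwa [det_diagonal]⟩,
    (Unitary.mem_SU_iff hF _).2 ?_⟩, rfl⟩, fun σ => ⟨⟨⟨_, det_perm σ⟩, (Unitary.mem_SU_iff hF _).2 ?_⟩, rfl⟩⟩
  · simp only [diagonal_transpose, diagonal_map (map_zero _), diagonal_mul_diagonal, Unitary.conj_apply, ← pow_succ',
      hc, pow_mul, h1, one_pow, diagonal_one]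
  · change (σ.permMatrix F)ᵀ * (σ.permMatrix F).map _ = 1
    rw [Equiv.Perm.permMatrix, PEquiv.map_toMatrix, ← PEquiv.toMatrix_symm, ← PEquiv.toMatrix_trans,
      ← Equiv.toPEquiv_symm, ← Equiv.toPEquiv_trans, Equiv.symm_trans_self, Equiv.toPEquiv_refl, PEquiv.toMatrix_refl]

theorem psl6 {n : ℕ} (hn : 6 ≤ n) : ¬ R2 PSL(n, F) := fun h =>
  have c : ∀ i j : Fin (n - 1), i.val + 1 < j.val → Cm (qSys (slSys n F)) ((rootA n).simple i) ((rootA n).simple j) :=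
    fun i j e => cm_of_A (Fin.ne_of_val_ne (by omega))
      (by rw [rootA_A, if_neg (Fin.ne_of_val_ne (by omega)), if_neg (by omega)])
  idt (good_psl (n := n) (by omega)).sharp (c ⟨0, by omega⟩ ⟨2, by omega⟩ (by simp))
    (c ⟨0, by omega⟩ ⟨4, by omega⟩ (by simp)) (c _ _ (by simp)) (sub h _)

theorem psp {m : ℕ} (hm : 3 ≤ m) : ¬ R2 (PSp m F) := fun h =>
  idt (good_psp (m := m) (by omega)).sharp (cm_C _ (i := ⟨0, by omega⟩) (j := ⟨1, by omega⟩) (by simp))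
    (cm_C _ (j := ⟨2, by omega⟩) (by simp)) (cm_C _ (by simp)) (sub h _)

/-- the root `ε_i - ε_j` -/
def rm {m : ℕ} (i j : Fin m) (h : i.val < j.val) : MidR m := ⟨(.inl i, .inr j), by
  have := j.2; simp only [key_inl, key_inr]; omega⟩

/-- the root `ε_i + ε_j` -/
def rp {m : ℕ} (i j : Fin m) (h : i.val < j.val) : MidR m := ⟨(.inl i, .inl j), by
  have := j.2; simp only [key_inl]; omega⟩

theorem plus {m : ℕ} (hm : 4 ≤ m) : ¬ R2 (POmega F (quadFormPlus m F)) := fun h =>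
  idt (good_plus (m := m) (by omega) (by omega) (by omega)).sharp
    (cm_D _ (r := rm ⟨0, by omega⟩ ⟨1, by omega⟩ one_pos) (s := rp ⟨0, by omega⟩ ⟨1, by omega⟩ one_pos)
      (by simp [evM, rm, rp, eps_dot']))
    (cm_D _ (s := rm ⟨2, by omega⟩ ⟨3, by omega⟩ (by simp)) (by simp [evM, rm, eps_dot']))
    (cm_D _ (by simp [evM, rm, rp, eps_dot'])) (sub h _)

theorem minus {F : Type} [Field F] [Fintype F] [CharP F 2] {m : ℕ} (hm : 3 ≤ m) {a b : F}
    (hab : ∀ z₁ z₂ : F, z₁ ^ 2 + a * z₁ * z₂ + b * z₂ ^ 2 = 0 → z₁ = 0 ∧ z₂ = 0) :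
    ¬ R2 (POmega F (quadFormMinus m F a b)) := fun h => by
  obtain ⟨L, _, _, j, φ, M, h3, ⟨f⟩⟩ := exists_om (m := m) (by omega) hab
  have := charP_of_injective_ringHom j.injective 2
  have k : ∀ r s : MidR (m + 1), key (swD m r.1.1) = key s.1.1 → key (swD m r.1.2) = key s.1.2 →
      Mv (omTw (m := m) (by omega) φ (by omega)) r s := fun r s h1 h2 => by
    obtain rfl : rhoD r = s := Subtype.ext (Prod.ext (key_injective h1) (key_injective h2))
    exact ⟨congrArg QuotientGroup.mk ((omAut_x _ φ _ r 1).trans (by rw [map_one])),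
      congrArg QuotientGroup.mk ((omAut_x _ φ _ _ 1).trans (by
        rw [map_one]; exact congrArg (StSys.x _ · _) ((symD (m := m) (by omega)).ρ_neg r)))⟩
  let i : Fin (m + 1) := ⟨0, by omega⟩
  let i' : Fin (m + 1) := ⟨1, by omega⟩
  let l : Fin (m + 1) := ⟨2, by omega⟩
  have hl : l.val < (Fin.last m).val := hm
  have c : ∀ r s : MidR (m + 1), evM r ⬝ᵥ evM s = 0 → Cm (qSys (omegaPlusSys (F := L) (m := m + 1) (by omega)
    (by omega))) r s := fun _ _ => cm_D _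
  refine blk (blk1 h3.tw (r := rm i i' one_pos) ((rootD_pos_iff _).2 ?_) (k _ _ ?_ ?_))
    (blk1 h3.tw (r := rp i i' one_pos) ((rootD_pos_iff _).2 ?_) (k _ _ ?_ ?_))
    (blk2 h3.tw (r := rm l _ hl) (s := rp l _ hl) ((rootD_pos_iff _).2 ?_) ((rootD_pos_iff _).2 ?_) (k _ _ ?_ ?_)
      (k _ _ ?_ ?_) (c _ _ ?_)) (c _ _ ?_) ((c _ _ ?_).mul_right (c _ _ ?_)) ((c _ _ ?_).mul_right (c _ _ ?_))
    (congr h f)
  all_goals
    simp only [evM, rm, rp, add_dotProduct, dotProduct_add, eps_dot, key_swD, key_inl, key_inr, i, i', l, Fin.val_last]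
    (try split_ifs) <;> omega

theorem chev {D : ChevalleyDatum} [Chev.Good D] (h : RtOK D) (r s t : Fin D.nroots)
    (c : CmChk D r s ∧ CmChk D r t ∧ CmChk D s t) : ¬ R2 (D.group F) :=
  stSys_grp (F := F) h ▸ idt (S := stSys h F) (sharp_stSys h F) (cm_of_chk h c.1) (cm_of_chk h c.2.1) (cm_of_chk h c.2.2)

theorem tw6 {q : ℕ} (hq : IsPrimePow q) (hF : Fintype.card F = q ^ 2) : ¬ R2 (twistedE6 F q) := by
  obtain ⟨φ, hφ⟩ := Twist.exists_frob hq hF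
  have hM := isTwE6 hφ (frob2 hφ hF)
  have e : ∀ z : ℤ, z = 1 ∨ z = -1 → (z : F) * φ 1 = 1 := by
    rintro _ (rfl | rfl) <;> simp [CharTwo.neg_eq]
  have k : ∀ r s : Fin 72, rhoE6 r = s ∧ (epsE6 r = 1 ∨ epsE6 r = -1) ∧ rhoE6 (chevE6.neg r) = chevE6.neg s ∧
      (epsE6 (chevE6.neg r) = 1 ∨ epsE6 (chevE6.neg r) = -1) → Mv (twE6 φ) (rtE6 r) (rtE6 s) :=
    fun r s ⟨h1, h2, h3, h4⟩ => ⟨(twE6_σ_x φ r.2 1).trans (by rw [h1, e _ h2]; rfl),
      (twE6_σ_x φ (neg_lt r.2) 1).trans (by rw [h3, e _ h4]; rfl)⟩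
  have p : ∀ r ∈ [56, 36, 39, 71], (rootSys rtOKE6).Pos (rtE6 r) := by unfold RootSys.Pos; decide +kernel
  have c : ∀ r s : Fin 72, CmChk chevE6 r s → Cm (stSys rtOKE6 F) (rtE6 r) (rtE6 s) := fun _ _ => cm_of_chk _
  exact blk (blk2 hM (p 56 (by simp)) (p 36 (by simp)) (k _ _ (by decide +kernel)) (k _ _ (by decide +kernel))
    (c _ _ (by decide +kernel))) (blk1 hM (p 39 (by simp)) (k _ _ (by decide +kernel)))
    (blk1 hM (p 71 (by simp)) (k _ _ (by decide +kernel)))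
    ((c _ _ (by decide +kernel)).mul_left (c _ _ (by decide +kernel)))
    ((c _ _ (by decide +kernel)).mul_left (c _ _ (by decide +kernel))) (c _ _ (by decide +kernel))

end R3

open R3 Cfsg.Lie CfsgLib.Weyl in
theorem l13 {Y : Type*} [Group Y] [Finite Y] (h : IsChevSimple 2 Y) (hr : R2 Y) : L13 Y := by
  obtain h | ⟨-, h | h | h⟩ | ⟨h, -⟩ := h
  on_goal 2 => exact .inr (.inr (.inr (.inr (.inl h))))
  on_goal 2 => exact .inr (.inr (.inr (.inr (.inr h))))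
  on_goal 2 => exact .inr (.inr (.inr (.inl h)))
  on_goal 2 => exact absurd h (by decide)
  obtain ⟨F, _, _, _, n, h1, h0, ⟨e⟩⟩ | ⟨F, _, _, _, n, h1, h0, ⟨e⟩⟩ | ⟨F, _, _, _, n, q, hF, h1, h0, ⟨e⟩⟩ |
    ⟨F, _, _, _, n, -, h2, -⟩ | ⟨F, _, _, _, n, h1, ⟨e⟩⟩ | ⟨F, _, _, _, n, a, b, h1, h2, ⟨e⟩⟩ |
    ⟨F, _, _, _, h⟩ | ⟨F, _, _, _, q, hq, ⟨hF, ⟨e⟩⟩ | h⟩ | h | h | h := h
  · refine .inl ⟨F, _, ‹_›, ‹_›, ?_⟩
    have h6 : n < 6 := not_le.1 fun h => psl6 h (congr hr e)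
    interval_cases n
    · exact .inl ⟨h0 rfl, ⟨e⟩⟩
    · exact .inr (.inl ⟨e⟩)
    · exact .inr (.inr (.inl ⟨not_not.1 fun h => psl (by decide) h (congr hr e), ⟨e⟩⟩))
    · exact .inr (.inr (.inr (.inl ⟨not_not.1 fun h => psl (by decide) h (congr hr e), ⟨e⟩⟩)))
  · obtain rfl : 2 = n := h1.eq_or_lt.resolve_right fun h => psp h (congr hr e)
    exact .inl ⟨F, _, ‹_›, ‹_›, .inr (.inr (.inr (.inr (.inl ⟨h0 rfl, ⟨e⟩⟩))))⟩
  · obtain rfl : 3 = n := h1.eq_or_lt.resolve_right fun h => psu hF h (congr hr e)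
    exact .inl ⟨F, _, ‹_›, ‹_›, .inr (.inr (.inr (.inr (.inr (.inr (.inl ⟨q, hF, fun h => h0 ⟨rfl, h⟩, ⟨e⟩⟩))))))⟩
  · exact absurd CharTwo.two_eq_zero (OrthE.two_ne_zero_of_odd h2)
  · exact absurd (congr hr e) (plus h1)
  · exact absurd (congr hr e) (minus (by omega) h2)
  · obtain h | ⟨⟨e⟩⟩ | ⟨⟨e⟩⟩ | ⟨⟨e⟩⟩ | ⟨⟨e⟩⟩ := h
    exacts [.inl ⟨F, _, ‹_›, ‹_›, .inr (.inr (.inr (.inr (.inr (.inl h)))))⟩,
      absurd (congr hr e) (chev rtOKF4 (33 : Fin 48) (25 : Fin 48) (47 : Fin 48) (by decide +kernel)),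
      absurd (congr hr e) (chev rtOKE6 (56 : Fin 72) (46 : Fin 72) (37 : Fin 72) (by decide +kernel)),
      absurd (congr hr e) (chev rtOKE7 (93 : Fin 126) (78 : Fin 126) (66 : Fin 126) (by decide +kernel)),
      absurd (congr hr e) (chev rtOKE8 (162 : Fin 240) (141 : Fin 240) (126 : Fin 240) (by decide +kernel))]
  · exact absurd (congr hr e) (tw6 hq hF)
  · exact .inl ⟨F, _, ‹_›, ‹_›, .inr (.inr (.inr (.inr (.inr (.inr (.inr ⟨q, hq, h⟩))))))⟩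
  · exact .inr (.inl h.2)
  · exact .inr (.inr (.inl h.2))
  · exact absurd h.1 (by decide)

end CfsgLib.QT3
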