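import Mathlib
import Cfsg.Agent.Lib.KInv.SpRu

/-!
Two-point stabilisers of the Rudvalis group on 4060 points; the centraliser of a fixed point free involution has
order prime to three.
-/

set_option autoImplicit false
set_option maxRecDepth 100000

namespace CfsgLib.QT3.RuX

open Subgroup MulAction CfsgLib.Comput CfsgLib.MultC CfsgLib.MultC.Ru CfsgLib.StdRu CfsgLib.QT2.RuFix
open CfsgLib.KInv.RuK

local notation "Fx" => fixedBy (Fin 4060)
local notation "pt" => finPt 4060

/-- the order of the stabiliser of two points -/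
noncomputable def n2 (p q : Fin 4060) : ℕ := Nat.card (stabilizer PG p ⊓ stabilizer PG q : Subgroup PG)

theorem n2_smul (g : PG) (p q : Fin 4060) : n2 (g • p) (g • q) = n2 p q := by
  rw [n2, stabilizer_smul_eq_stabilizer_map_conj, stabilizer_smul_eq_stabilizer_map_conj,
    ← Subgroup.map_inf _ _ _ (MulAut.conj g).injective]
  exact card_map_of_injective (MulAut.conj g).injective

theorem orb_mul (p q : Fin 4060) : (orbit (stabilizer PG p) q).ncard * n2 p q = 35942400 := by
  have h1 : Nat.card (stabilizer (stabilizer PG p) q) = n2 p q := by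
    rw [n2, ← Nat.card_congr (subgroupOfEquivOfLe (inf_le_left : stabilizer PG p ⊓ stabilizer PG q ≤ _)).toEquiv,
      inf_subgroupOf_left]
    rfl
  rw [← h1, ← card_stab p, ← index_stabilizer, mul_comm, card_mul_index]

/-- the two suborbits -/
noncomputable def sR : ℕ := grow (stepN U) [9, 10, 13, 14] 4 (Nat.shiftLeft 1 1956)
noncomputable def sQ : ℕ := grow (stepN U) [9, 10, 13, 14] 4 (Nat.shiftLeft 1 2614)

/-- the words of `b`, `e`, `x`, `w` -/
def wb : ℕ := 0x605020b1a0d13181a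
def we : ℕ := 0x1a1307101a0a1711151111
def wx : ℕ := 0x1314020a0f09121c
def ww : ℕ := 0x16041a140d091712121c

/-- the two orbits of the centraliser of `b` -/
noncomputable def sA : ℕ := grow (stepN U) [wx, ww, wb, we] 8 (Nat.shiftLeft 1 0)
noncomputable def sB : ℕ := grow (stepN U) [wx, ww, wb, we] 8 (Nat.shiftLeft 1 2000)

theorem pop_R : pop 4060 sR = 2304 := by decide +kernel
theorem pop_Q : pop 4060 sQ = 1755 := by decide +kernel
theorem pop_RQ : pop 4060 (Nat.lor (Nat.lor sR sQ) (Nat.shiftLeft 1 0)) = 4060 := by decide +kernel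
theorem pop_A : pop 4060 sA = 1820 := by decide +kernel
theorem pop_AB : pop 4060 (Nat.lor sA sB) = 4060 := by decide +kernel

theorem pts : allL (fun t : ℕ × ℕ × ℕ => Nat.beq (act (stepN U) t.1 (Nat.shiftLeft 1 t.2.1)) (Nat.shiftLeft 1 t.2.2))
    [(9, 0, 0), (10, 0, 0), (13, 0, 0), (14, 0, 0), (wb, 0, 2614), (we, 0, 3571), (3, 2000, 0), (wb, 2000, 406),
      (3, 406, 1956)] = true := by decide +kernel

theorem eqs : allL eqU [([wb, wb], []), ([we, we], []), (List.replicate 7 ww, []), ([wb, wb], [wb, wb]),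
    ([wb, we], [we, wb]), ([wb, wx], [wx, wb]), ([wb, ww], [ww, wb]), ([we, ww], [ww, we])] = true := by
  decide +kernel

theorem w_ne : tb (act (stepN U) ww (Nat.shiftLeft 1 0)) 0 = false := by decide +kernel

section
variable {α : ℕ → PG} (M : SM α 4060 pt (stepN U))
include M

theorem pt_eq {w a b : ℕ} (h : (w, a, b) ∈ [(9, 0, 0), (10, 0, 0), (13, 0, 0), (14, 0, 0), (wb, 0, 2614),
    (we, 0, 3571), (3, 2000, 0), (wb, 2000, 406), (3, 406, 1956)]) : ev α w • pt a = pt b := by
  refine M.smul_pt ?_ ?_ (allL_sound pts _ h) <;>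
    simp only [List.mem_cons, Prod.mk.injEq, List.not_mem_nil, or_false] at h <;> omega

theorem eq_univ {S : ℕ} (h : pop 4060 S = 4060) : sem 4060 pt S = Set.univ :=
  Set.eq_of_subset_of_ncard_le (Set.subset_univ _) (by rw [M.ncard_sem, h, Set.ncard_univ, Nat.card_fin])

theorem sub_orb {a : ℕ} (ha : a < 4060) : sem 4060 pt (grow (stepN U) [9, 10, 13, 14] 4 (Nat.shiftLeft 1 a)) ⊆
    orbit (stabilizer PG (pt 0)) (pt a) := fun x hx => by
  obtain ⟨k, hk, y, hy, rfl⟩ := M.grow_sound (K := stabilizer PG (pt 0)) (fun w hw => pt_eq M (by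
    simp only [List.mem_cons, List.not_mem_nil, or_false] at hw
    rcases hw with rfl | rfl | rfl | rfl <;> simp)) 4 _ x hx
  rw [show Nat.shiftLeft 1 a = 1 <<< a from rfl, sem_single _ ha, Set.mem_singleton_iff] at hy
  exact ⟨⟨k, hk⟩, hy ▸ rfl⟩

theorem rank3 : n2 (pt 0) (pt 1956) = 15600 ∧ n2 (pt 0) (pt 2614) = 20480 ∧
    ∀ q, q ≠ pt 0 → q ∈ orbit (stabilizer PG (pt 0)) (pt 1956) ∨ q ∈ orbit (stabilizer PG (pt 0)) (pt 2614) := by
  have hR := sub_orb M (a := 1956) (by norm_num)
  have hQ := sub_orb M (a := 2614) (by norm_num)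
  have h1 := Set.ncard_le_ncard hR (Set.toFinite _)
  have h2 := Set.ncard_le_ncard hQ (Set.toFinite _)
  rw [M.ncard_sem] at h1 h2
  replace h1 := pop_R.symm.trans_le h1
  replace h2 := pop_Q.symm.trans_le h2
  have h3 := eq_univ M pop_RQ
  rw [show ∀ a b : ℕ, Nat.lor a b = a ||| b from fun _ _ => rfl, show ∀ a b : ℕ, Nat.lor a b = a ||| b from
    fun _ _ => rfl, sem_lor, sem_lor, show Nat.shiftLeft 1 0 = 1 <<< 0 from rfl, sem_single _ (by norm_num)] at h3
  have h4 : ∀ q, q ≠ pt 0 → q ∈ orbit (stabilizer PG (pt 0)) (pt 1956) ∨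
      q ∈ orbit (stabilizer PG (pt 0)) (pt 2614) := fun q hq =>
    ((h3.ge (Set.mem_univ q)).resolve_right hq).imp (fun h => hR h) fun h => hQ h
  have h5 : ∀ a, a ≠ pt 0 → orbit (stabilizer PG (pt 0)) a ⊆ {pt 0}ᶜ := by
    rintro a ha _ ⟨k, rfl⟩ e
    exact ha ((smul_left_cancel_iff k).1 (e.trans (show k • pt 0 = pt 0 from k.2).symm))
  have h6 : ({pt 0}ᶜ : Set (Fin 4060)).ncard = 4059 := by
    have := Set.ncard_add_ncard_compl ({pt 0} : Set (Fin 4060))
    rw [Set.ncard_singleton, Nat.card_fin] at this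
    omega
  have h7 := orb_mul (pt 0) (pt 1956)
  have h8 := orb_mul (pt 0) (pt 2614)
  rcases orbit.eq_or_disjoint (G := stabilizer PG (pt 0)) (pt 1956) (pt 2614) with e | e
  · have h9 : orbit (stabilizer PG (pt 0)) (pt 1956) = {pt 0}ᶜ :=
      (h5 _ (by decide)).antisymm fun q hq => (h4 q hq).elim id fun h => e ▸ h
    rw [h9, h6] at h7
    omega
  · have h9 := Set.ncard_le_ncard (Set.union_subset (h5 (pt 1956) (by decide)) (h5 (pt 2614) (by decide)))
      (Set.toFinite _)
    rw [Set.ncard_union_eq e (Set.toFinite _) (Set.toFinite _), h6] at h9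
    rw [show (orbit (stabilizer PG (pt 0)) (pt 1956)).ncard = 2304 by omega] at h7
    rw [show (orbit (stabilizer PG (pt 0)) (pt 2614)).ncard = 1755 by omega] at h8
    exact ⟨by omega, by omega, h4⟩

theorem sub_n2 (h : ∀ w ∈ [wx, ww, wb, we], Commute (ev α wb) (ev α w)) {a : ℕ} (ha : a < 4060) :
    sem 4060 pt (grow (stepN U) [wx, ww, wb, we] 8 (Nat.shiftLeft 1 a)) ⊆
      {p | n2 p (ev α wb • p) = n2 (pt a) (ev α wb • pt a)} := by
  refine M.grow_subset (fun w hw y hy => ?_) 8 ?_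
  · rw [Set.mem_setOf_eq, ← mul_smul, (h w hw).eq, mul_smul, n2_smul]
    exact hy
  · rw [show Nat.shiftLeft 1 a = 1 <<< a from rfl, sem_single _ ha, Set.singleton_subset_iff]
    rfl

end

theorem two_pt {p q : Fin 4060} (h : p ≠ q) : n2 p q = 15600 ∨ n2 p q = 20480 := by
  obtain ⟨α, hα⟩ := (realU real0).letters
  obtain ⟨h1, h2, h3⟩ := rank3 (model.sm hα)
  have := trans
  obtain ⟨g, hg⟩ := exists_smul_eq PG p (pt 0)
  rw [← n2_smul g, hg]
  have k : ∀ a, g • q ∈ orbit (stabilizer PG (pt 0)) a → n2 (pt 0) (g • q) = n2 (pt 0) a := by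
    rintro a ⟨k, e⟩
    rw [← e, ← n2_smul k.1 _ a, show k.1 • pt 0 = pt 0 from k.2]
    rfl
  exact (h3 (g • q) fun e => h ((smul_left_cancel_iff g).1 (hg.trans e.symm))).imp
    (fun e => (k _ e).trans h1) fun e => (k _ e).trans h2

/-- the four-group centralising an element of order seven -/
theorem exists_bew : ∃ b e w : PG, orderOf b = 2 ∧ orderOf e = 2 ∧ b ≠ e ∧ orderOf w = 7 ∧ Commute b e ∧
    Commute b w ∧ Commute e w ∧ ¬ 3 ∣ Nat.card (centralizer ({b} : Set PG)) := by
  haveI : Fact (Nat.Prime 7) := ⟨by norm_num⟩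
  obtain ⟨α, hα⟩ := (realU real0).letters
  have heq : ∀ e, eqU e = true → e.Holds α := fun e h => (model.wm hα (by norm_num)).holds h
  have M := model.sm hα
  have hf := allL_sound eqs
  have c : ∀ a b, eqU ([a, b], [b, a]) = true → Commute (ev α a) (ev α b) := fun a b h => by
    have h3 : Comput.evL α [a, b] = Comput.evL α [b, a] := heq _ h
    rwa [evL_two, evL_two] at h3
  have k : ∀ a q, eqU ([a, a], []) = true → ev α a • pt 0 = pt q → pt q ≠ pt 0 → orderOf (ev α a) = 2 :=
    fun a q h h1 h2 => by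
      have h3 : Comput.evL α [a, a] = Comput.evL α [] := heq _ h
      rw [evL_two] at h3
      exact orderOf_eq_prime (by rw [pow_two]; exact h3) fun e => h2 (by rw [← h1, e, one_smul])
  have p1 : ev α wb • pt 0 = pt 2614 := pt_eq M (by simp)
  have p2 : ev α we • pt 0 = pt 3571 := pt_eq M (by simp)
  have hc : ∀ w ∈ [wx, ww, wb, we], Commute (ev α wb) (ev α w) := fun w hw => c _ _ (hf _ (by
    simp only [List.mem_cons, List.not_mem_nil, or_false] at hw
    rcases hw with rfl | rfl | rfl | rfl <;> simp))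
  refine ⟨ev α wb, ev α we, ev α ww, k _ _ (hf _ (by simp)) p1 (by decide), k _ _ (hf _ (by simp)) p2 (by decide),
    fun e => absurd (p1.symm.trans (e ▸ p2)) (by decide), ?_, hc _ (by simp), hc _ (by simp),
    c _ _ (hf _ (by simp)), fun h3 => ?_⟩
  · have h3 : Comput.evL α (List.replicate 7 ww) = Comput.evL α [] :=
      heq _ (hf _ (.tail _ (.tail _ List.mem_cons_self)))
    rw [evL_replicate] at h3
    exact orderOf_eq_prime h3 fun e => M.smul_pt_ne (w := ww) (a := 0) (by norm_num) w_ne (by rw [e, one_smul])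
  obtain ⟨y, hy, ho⟩ := Core.exists_mem_orderOf_eq_of_dvd_card (p := 3) (by norm_num) h3
  have hy : y * ev α wb = ev α wb * y := mem_centralizer_singleton_iff.1 hy
  obtain ⟨r1, r2, -⟩ := rank3 M
  have a1 := sub_n2 M hc (a := 0) (by norm_num)
  have a2 := sub_n2 M hc (a := 2000) (by norm_num)
  rw [p1, r2] at a1
  rw [← n2_smul (ev α 3) (pt 2000), pt_eq M (w := 3) (a := 2000) (b := 0) (by simp),
    pt_eq M (w := wb) (a := 2000) (b := 406) (by simp), pt_eq M (w := 3) (a := 406) (b := 1956) (by simp), r1] at a2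
  have a3 := eq_univ M pop_AB
  rw [show ∀ a b : ℕ, Nat.lor a b = a ||| b from fun _ _ => rfl, sem_lor] at a3
  have a4 : {p | n2 p (ev α wb • p) = 20480} = sem 4060 pt sA := Set.Subset.antisymm (fun p hp =>
    (a3.ge (Set.mem_univ p)).resolve_right fun e => absurd ((a2 e).symm.trans hp) (by norm_num)) a1
  have a5 := fix_mod (p := 3) (x := y) (by rw [← ho, pow_orderOf_eq_one])
    (A := {p | n2 p (ev α wb • p) = 20480}) fun p hp => by
      rw [Set.mem_setOf_eq, ← mul_smul, ← hy, mul_smul, n2_smul]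
      exact hp
  rw [a4, M.ncard_sem, pop_A, ← a4] at a5
  obtain ⟨p, hp, hp'⟩ : ({p | n2 p (ev α wb • p) = 20480} ∩ Fx y).Nonempty := by
    rw [← Set.ncard_pos]
    unfold Nat.ModEq at a5
    omega
  have a6 : y ∈ stabilizer PG p ⊓ stabilizer PG (ev α wb • p) :=
    ⟨hp', mem_stabilizer_iff.2 (by rw [← mul_smul, hy, mul_smul, show y • p = p from hp'])⟩
  have a7 := orderOf_dvd_natCard _ a6
  rw [ho] at a7
  exact absurd (a7.trans (Eq.dvd hp)) (by norm_num)

/-- nine does not divide the order of the centraliser of an involution with fixed points -/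
theorem not9 {u : PG} (h : (Fx u).ncard = 92) : ¬ 3 ^ 2 ∣ Nat.card (centralizer ({u} : Set PG)) := fun e => by
  haveI : Fact (Nat.Prime 3) := ⟨by norm_num⟩
  obtain ⟨R, hR⟩ := Sylow.exists_subgroup_card_pow_prime 3 e
  have hc : ∀ d : R, Commute u d := fun d => (mem_centralizer_singleton_iff.1 d.1.2).symm
  let F : SubMulAction R (Fin 4060) := ⟨Fx u, fun d b hb => by
    change u • ((d.1 : PG) • b) = (d.1 : PG) • b
    rw [← mul_smul, (hc d).eq, mul_smul, show u • b = b from hb]⟩
  have h1 := (IsPGroup.of_card hR).card_modEq_card_fixedPoints F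
  rw [show Nat.card F = 92 from h] at h1
  have h2 : 1 < Nat.card (fixedPoints R F) := by
    unfold Nat.ModEq at h1
    omega
  obtain ⟨p, q, hpq⟩ := (Finite.one_lt_card_iff_nontrivial.1 h2).exists_pair_ne
  have h3 : (R.map (centralizer ({u} : Set PG)).subtype) ≤ stabilizer PG p.1.1 ⊓ stabilizer PG q.1.1 := by
    rintro _ ⟨d, hd, rfl⟩
    exact ⟨congrArg Subtype.val (p.2 ⟨d, hd⟩), congrArg Subtype.val (q.2 ⟨d, hd⟩)⟩
  have h4 := card_dvd_of_le h3
  rw [card_map_of_injective (subtype_injective _), hR] at h4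
  rcases two_pt (p := p.1.1) (q := q.1.1) fun e => hpq (Subtype.ext (Subtype.ext e)) with e | e <;>
    exact absurd (h4.trans (Eq.dvd e)) (by norm_num)

end CfsgLib.QT3.RuX
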