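import Mathlib
import Cfsg.Agent.Lib.QT2.Basic
import Cfsg.Agent.Lib.QT2.SmS
import Cfsg.Agent.Lib.Gold.All
import Cfsg.Agent.Lib.Gold.Cor1
import Cfsg.Agent.Lib.McLRec.Cover
import Cfsg.Agent.Lib.Schur.Basic
import Cfsg.Agent.Lib.Classical.SLCard
import Cfsg.Agent.S0493
import Cfsg.Agent.S0904
import Cfsg.Agent.S3331

/-!
Counting lemmas for pump-ups to `Ru`.
-/

set_option autoImplicit false

namespace CfsgLib.QT3.RuX

open Cfsg Subgroup MulAction CfsgLib.Comp CfsgLib.QT2
open scoped commutatorElement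

variable {G : Type*} [Group G]

theorem burn_hom {H Ω : Type*} [Group H] [Fintype H] [MulAction G Ω] [Finite Ω] (φ : H →* G) :
    Fintype.card H ∣ ∑ h, (fixedBy Ω (φ h)).ncard := by
  classical
  let _ := MulAction.compHom Ω φ
  have := fun a : H => Fintype.ofFinite (fixedBy Ω a)
  have := Fintype.ofFinite (Quotient (orbitRel H Ω))
  refine Dvd.intro_left _ ((sum_card_fixedBy_eq_card_orbits_mul_card_group H Ω).symm.trans
    (Finset.sum_congr rfl fun h _ => ?_))
  rw [← Nat.card_eq_fintype_card, Nat.card_coe_set_eq]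
  rfl

open Classical in
/-- the homomorphism onto the group generated by an involution -/
noncomputable def ph (a : G) (h : a * a = 1) : ℤˣ →* G where
  toFun u := if u = 1 then 1 else a
  map_one' := if_pos rfl
  map_mul' u v := by
    rcases Int.units_eq_one_or u with rfl | rfl <;> rcases Int.units_eq_one_or v with rfl | rfl <;> simp [h]

theorem ph_comm {a x : G} (h : a * a = 1) (hc : Commute a x) (u : ℤˣ) : Commute (ph a h u) x := by
  rcases Int.units_eq_one_or u with rfl | rfl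
  · rw [map_one]; exact Commute.one_left x
  · exact hc

theorem burn4 {Ω : Type*} [MulAction G Ω] [Finite Ω] {a b c d : G} (ha : a * a = 1) (hb : b * b = 1)
    (hc : c * c = 1) (hd : d * d = 1) (h1 : Commute a b) (h2 : Commute c d) (h3 : Commute a c) (h4 : Commute a d)
    (h5 : Commute b c) (h6 : Commute b d) (S : G → ℕ) (hS : ∀ l, S l = (fixedBy Ω l).ncard +
      (fixedBy Ω (a * l)).ncard + (fixedBy Ω (b * l)).ncard + (fixedBy Ω (a * b * l)).ncard) :
    16 ∣ S 1 + S c + S d + S (c * d) := by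
  have k : ∀ {x y : G} (hx : x * x = 1) (hy : y * y = 1), Commute x y → ∀ u v, Commute (ph x hx u) (ph y hy v) :=
    fun hx hy h u v => ph_comm hx (ph_comm hy h.symm v).symm u
  obtain ⟨φ, hφ⟩ : ∃ φ : (ℤˣ × ℤˣ) × ℤˣ × ℤˣ →* G, ∀ u, φ u =
      ph a ha u.1.1 * ph b hb u.1.2 * (ph c hc u.2.1 * ph d hd u.2.2) :=
    ⟨((ph a ha).noncommCoprod (ph b hb) (k ha hb h1)).noncommCoprod
      ((ph c hc).noncommCoprod (ph d hd) (k hc hd h2)) fun u v =>
        ((k ha hc h3 _ _).mul_right (k ha hd h4 _ _)).mul_left ((k hb hc h5 _ _).mul_right (k hb hd h6 _ _)),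
      fun _ => rfl⟩
  have := burn_hom (Ω := Ω) φ
  have e : ∀ (x : G) (hx : x * x = 1), ph x hx (-1) = x := fun _ _ => rfl
  simp only [Fintype.card_prod, Fintype.card_units_int, Fintype.sum_prod_type, UnitsInt.univ,
    hφ, Finset.sum_pair (show (1 : ℤˣ) ≠ -1 by decide), map_one, e, one_mul, mul_one] at this
  simp only [hS, mul_one]
  omega

/-- a perfect group centralising a fixed point free involution -/
theorem sign_false [Finite G] {Ω : Type*} [MulAction G Ω] [Finite Ω] {n : ℕ} (hn : Odd n) (hΩ : Nat.card Ω = 4 * n)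
    {L : Subgroup G} (hL : Group.IsPerfect L) {f c : G} (hf : orderOf f = 2) (h1 : ∀ l ∈ L, Commute f l) (hc : c ∈ L)
    (h2 : c * c = 1) (h3 : ∀ a : Ω, f • a ≠ a) (h4 : ∀ a : Ω, c • a ≠ a) (h5 : ∀ a : Ω, (f * c) • a ≠ a) : False := by
  classical
  have hz : ∀ g ∈ zpowers f, g = 1 ∨ g = f := fun g hg => by
    have := (mem_zpowers_iff_mem_range_orderOf (x := f) (y := g)).1 hg
    rw [hf] at this
    simpa [Finset.range_add_one, eq_comm, or_comm] using this
  have hr : ∀ (l : L) (a b : Ω), orbitRel (zpowers f) Ω a b → orbitRel (zpowers f) Ω (l.1 • a) (l.1 • b) := by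
    rintro l _ b ⟨⟨_, k, rfl⟩, rfl⟩
    exact ⟨⟨_, k, rfl⟩, by
      change f ^ k • l.1 • b = l.1 • f ^ k • b
      rw [← mul_smul, ((h1 l l.2).zpow_left k).eq, mul_smul]⟩
  let Q := Quotient (orbitRel (zpowers f) Ω)
  let _ : MulAction L Q :=
    { smul := fun l => Quotient.map' (l.1 • ·) (hr l)
      one_smul := fun q => Quotient.inductionOn' q fun a => congrArg Quotient.mk'' (one_smul G a)
      mul_smul := fun l m q => Quotient.inductionOn' q fun a => congrArg Quotient.mk'' (mul_smul l.1 m.1 a) }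
  have := Fintype.ofFinite Q
  have hQ : Fintype.card Q = 2 * n := by
    have e := Nat.card_congr (selfEquivOrbitsQuotientProd (G := zpowers f) (X := Ω) fun a =>
      (eq_bot_iff_forall _).2 fun (g : zpowers f) hg => (hz g g.2).elim (fun e => Subtype.ext e) fun e => absurd (e ▸ hg : f • a = a) (h3 a))
    rw [hΩ, Nat.card_prod, Nat.card_zpowers, hf] at e
    rw [← Nat.card_eq_fintype_card]
    change Nat.card (Quotient (orbitRel (zpowers f) Ω)) = _
    omega
  have h6 : (toPermHom L Q ⟨c, hc⟩) ^ 2 = 1 := by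
    rw [← map_pow, show (⟨c, hc⟩ : L) ^ 2 = 1 from Subtype.ext (by rw [pow_two]; exact h2), map_one]
  have h7 := Equiv.Perm.sign_of_pow_two_eq_one h6
  have h8 : Fintype.card (Function.fixedPoints (toPermHom L Q ⟨c, hc⟩)) = 0 := by
    rw [Fintype.card_eq_zero_iff]
    refine ⟨fun ⟨q, hq⟩ => ?_⟩
    obtain ⟨a, rfl⟩ := Quotient.exists_rep q
    obtain ⟨g, hg⟩ : orbitRel (zpowers f) Ω (c • a) a := Quotient.exact hq
    have hg : g.1 • a = c • a := hg
    rcases hz g g.2 with e | e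
    · exact h4 a (by rw [← hg, e, one_smul])
    · exact h5 a (by rw [mul_smul, ← hg, e, ← mul_smul, ← pow_two, ← hf, pow_orderOf_eq_one, one_smul])
  have h9 : (Equiv.Perm.sign.comp (toPermHom L Q)).ker = ⊤ :=
    eq_top_iff.2 (hL.commutator_eq_top ▸ Abelianization.commutator_subset_ker _)
  have h10 : Equiv.Perm.sign (toPermHom L Q ⟨c, hc⟩) = 1 := h9.ge (mem_top _)
  rw [h8, hQ, h10, Nat.sub_zero, Nat.mul_div_cancel_left _ two_pos, hn.neg_one_pow] at h7
  exact absurd h7 (by decide)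

theorem card_sz {X : Type*} [Group X] [Finite X] (h : OrdSz X) {a n : ℕ} (hd : Nat.card X ∣ 2 ^ a * n) : 65 * 7 ≤ n ∨ n = 0 := by
  obtain ⟨m, hm, hc, -⟩ := h
  refine (Nat.eq_zero_or_pos n).symm.imp (fun hn => ?_) id
  have h1 : 8 ≤ 2 ^ (2 * m + 1) := Nat.pow_le_pow_right two_pos (show 3 ≤ _ by omega)
  have h2 : Even (2 ^ (2 * m + 1)) := (Nat.even_pow.2 ⟨even_two, by omega⟩)
  have h3 : Odd (((2 ^ (2 * m + 1)) ^ 2 + 1) * (2 ^ (2 * m + 1) - 1)) :=
    (h2.pow_of_ne_zero two_ne_zero).add_one.mul (Nat.Even.sub_odd (by omega) h2 odd_one)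
  have h4 := ((Nat.coprime_two_right.2 h3).pow_right a).dvd_of_dvd_mul_left
    ((Dvd.intro_left _ ((mul_assoc _ _ _).symm.trans hc.symm)).trans hd)
  exact le_trans (Nat.mul_le_mul (by nlinarith) (by omega)) (Nat.le_of_dvd hn h4)

/-- a simple group of order dividing `2 ^ a * 15` -/
theorem card60 {X : Type} [Group X] [Finite X] [IsSimpleGroup X] (hX : ¬ IsMulCommutative X) {a : ℕ}
    (h : Nat.card X ∣ 2 ^ a * 5 * 3) : Nat.card X = 60 := by
  haveI : Fact (Nat.Prime 3) := ⟨by norm_num⟩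
  have h3 : 3 ∣ Nat.card X := by
    by_contra e
    have := card_sz (small_sz (Gold.Cor.isoSuzuki_of_three Gold.all hX e)).2.2.1 (mul_assoc _ 5 3 ▸ h)
    omega
  obtain ⟨m, hm⟩ := h3
  have h4 : m ∣ 2 ^ a * 5 ^ 1 := Nat.dvd_of_mul_dvd_mul_left three_pos (by rwa [← hm, mul_comm 3])
  obtain ⟨u, v, hu, hv, rfl⟩ := (Nat.dvd_mul).1 h4
  obtain ⟨i, -, rfl⟩ := (Nat.dvd_prime_pow Nat.prime_two).1 hu
  obtain ⟨j, hj, rfl⟩ := (Nat.dvd_prime_pow Nat.prime_five).1 hv
  obtain ⟨S⟩ : Nonempty (Sylow 3 X) := inferInstance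
  have h5 := Cfsg.Agent.S0904.result 2 5 3 i j Nat.prime_two Nat.prime_five (by norm_num) (by norm_num) (by norm_num)
    (hm.trans (mul_comm _ _)) S
  have h6 : Nat.card (S : Subgroup X) = 3 := by
    rw [S.card_eq_multiplicity, hm, Nat.factorization_mul (by norm_num) (by positivity),
      Nat.factorization_mul (by positivity) (by positivity)]
    simp [Nat.Prime.factorization_pow, Nat.prime_two, Nat.prime_five, Nat.prime_three.factorization]
  have k : ∀ (N : Subgroup X) [N.Normal], Group.IsSolvable N → Nat.card (X ⧸ N) = Nat.card X := fun N hN hs => by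
    rcases hN.eq_bot_or_eq_top with rfl | rfl
    · exact Nat.card_congr QuotientGroup.quotientBot.toEquiv
    · exact absurd (Coprime.isSolvable_of_mulEquiv topEquiv hs) (qs_not_isSolvable (qs_of_isSimpleGroup hX))
  have k2 := Cfsg.Agent.S0493.result (G := X) fun e => hX IsCyclic.isMulCommutative
  rcases Cfsg.Agent.S3331.result _ h6 h5 with ⟨N, _, h7, -, h8 | ⟨⟨e⟩⟩⟩ | ⟨N, _, h7, -, ⟨e⟩⟩ | ⟨⟨e⟩⟩
  · exact k2 (by rw [← k N inferInstance, h8]; norm_num)
  · exact k2 (by rw [← k N inferInstance, Nat.card_congr e.toEquiv, Nat.card_perm, Nat.card_fin]; decide)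
  · rw [← k N (Group.isSolvable_of_comm h7.is_comm.comm), Nat.card_congr e.toEquiv, Nat.card_eq_fintype_card,
      card_alternatingGroup]
    rfl
  · haveI : Fact (Nat.Prime 7) := ⟨by norm_num⟩
    have h7 := Classical.psl2_card_mul (F := ZMod 7)
    rw [ZMod.card, show Nat.gcd 2 (7 - 1) = 2 by norm_num, ← Nat.card_congr e.toEquiv] at h7
    rw [show Nat.card X = 7 * 24 by omega, mul_assoc] at h
    exact absurd ((Nat.Coprime.pow_right a (by norm_num : Nat.Coprime 7 2)).dvd_of_dvd_mul_left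
      ((Dvd.intro _ rfl).trans h)) (by norm_num)

/-- the class of an element of odd order embeds in the central quotient -/
theorem card_le_cent [Finite G] {L T : Subgroup G} (h2 : IsPGroup 2 (center L)) (hT : T ≤ normalizer (L : Set G)) {x : G}
    (hx : x ∈ L) (ho : Odd (orderOf x)) :
    Nat.card T ≤ Nat.card (centralizer {x} ⊓ T : Subgroup G) * Nat.card (L ⧸ center L) := by
  rw [← Core.card_inf_mul_relIndex (centralizer {x}) T]
  refine Nat.mul_le_mul_left _ (Nat.card_le_card_of_injective (fun q : T ⧸ (centralizer {x}).subgroupOf T =>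
    ((⟨q.out * x * (q.out : G)⁻¹, (mem_normalizer_iff.1 (hT q.out.2) x).1 hx⟩ : L) : L ⧸ center L)) fun q r e => ?_)
  rw [← q.out_eq', ← r.out_eq', QuotientGroup.eq, mem_subgroupOf, mem_centralizer_singleton_iff]
  replace e := QuotientGroup.eq.1 e
  generalize q.out = s, r.out = t at e
  generalize hu : (⟨s * x * (s : G)⁻¹, _⟩ : L) = u at e
  generalize hv : (⟨t * x * (t : G)⁻¹, _⟩ : L) = v at e
  have k : ∀ (t : T) (v : L), (t : G) * x * (t : G)⁻¹ = v → v ^ orderOf x = 1 := fun t v h =>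
    Subtype.ext (by rw [Subgroup.coe_pow, ← h, conj_pow, pow_orderOf_eq_one, mul_one, mul_inv_cancel]; rfl)
  have h3 : (u⁻¹ * v) ^ orderOf x = 1 := by
    have h4 : Commute u (u⁻¹ * v) := mem_center_iff.1 e u
    have h5 := h4.mul_pow (orderOf x)
    rwa [mul_inv_cancel_left, k t v (congrArg Subtype.val hv), k s u (congrArg Subtype.val hu), one_mul, eq_comm] at h5
  obtain ⟨n, hn⟩ := h2 ⟨_, e⟩
  have h4 : u⁻¹ * v = 1 := orderOf_eq_one_iff.1 (Nat.eq_one_of_dvd_coprimes ((Nat.coprime_two_left.2 ho).pow_left n)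
    (orderOf_dvd_of_pow_eq_one (congrArg Subtype.val hn)) (orderOf_dvd_of_pow_eq_one h3))
  have h5 : (s : G) * x * (s : G)⁻¹ = t * x * (t : G)⁻¹ :=
    congrArg Subtype.val (hu.trans ((inv_mul_eq_one.1 h4).trans hv.symm))
  calc (s : G)⁻¹ * t * x = (s : G)⁻¹ * (t * x * (t : G)⁻¹) * t := by group
    _ = x * ((s : G)⁻¹ * t) := by rw [← h5]; group

theorem mem_of_prime [Finite G] {L : Subgroup G} {w : G} {p : ℕ} (hp : p.Prime) (hw : orderOf w = p)
    (hn : w ∈ normalizer (L : Set G)) (h1 : p ∣ Nat.card L) (h2 : ¬ p ^ 2 ∣ Nat.card G) : w ∈ L := by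
  haveI := Fact.mk hp
  by_contra e
  have h3 := Core.card_sup_mul_card_inf_of_le_normalizer (zpowers_le.2 hn)
  have h4 : zpowers w ⊓ L = ⊥ := by
    have h5 : Nat.card (zpowers w ⊓ L : Subgroup G) ∣ p := hw ▸ Nat.card_zpowers w ▸ card_dvd_of_le inf_le_left
    refine card_eq_one.1 (((Nat.dvd_prime hp).1 h5).resolve_right fun h6 => e ?_)
    exact ((eq_of_le_of_card_ge inf_le_left (by rw [h6, Nat.card_zpowers, hw])).ge (mem_zpowers w)).2
  rw [h4, card_bot, mul_one, Nat.card_zpowers, hw] at h3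
  exact h2 (dvd_trans (by rw [h3, pow_two]; exact Nat.mul_dvd_mul_left _ h1) (card_subgroup_dvd_card _))

theorem dbl_of_stem {Γ Q : Type*} [Group Γ] [Group Q] {σ : Γ →* Q} (h : IsStemExtension σ) (hQ : center Q = ⊥)
    (h2 : Nat.card σ.ker = 2) : ∃ t, McLRec.Dbl σ t := by
  obtain ⟨t, ht, hu⟩ := (Nat.card_eq_two_iff' (1 : σ.ker)).1 h2
  have k : ∀ x, σ x = 1 ↔ x = 1 ∨ x = t := fun x => ⟨fun hx => (em (x = 1)).imp id fun e =>
    congrArg Subtype.val (hu ⟨x, hx⟩ fun e' => e (congrArg Subtype.val e')), by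
      rintro (rfl | rfl)
      exacts [map_one σ, t.2]⟩
  refine ⟨t, h.1, ?_, h.2.1 t.2, k, fun x => Iff.trans ⟨fun hx => ?_, fun hx => h.2.1 hx⟩ (k x), fun s hs => ?_⟩
  · rw [orderOf_coe]
    exact orderOf_eq_prime (by rw [← h2, pow_card_eq_one']) ht
  · refine mem_bot.1 (hQ ▸ mem_center_iff.2 fun q => ?_)
    obtain ⟨y, rfl⟩ := h.1 q
    rw [← map_mul, mem_center_iff.1 hx y, map_mul]
  · obtain ⟨q, hq⟩ := Schur.surjective_of_lift Function.surjective_id h s hs t
    have h6 : σ (s q) = q := DFunLike.congr_fun hs q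
    rw [hq, show σ t = 1 from t.2] at h6
    exact ht (Subtype.ext (by rw [← hq, ← h6, map_one]; rfl))

end CfsgLib.QT3.RuX
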