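import Mathlib
import Cfsg.Agent.Lib.QT3.Defs
import Cfsg.Agent.S3224
import Cfsg.Agent.Lib.Fgs.SylowNumber
import Cfsg.Agent.Lib.InvHarv.QuatAut

/-!
2-groups with an involution whose centralizer has order four.
-/

set_option autoImplicit false

namespace CfsgLib.QT3

open Cfsg Subgroup CfsgLib.LBal CfsgLib.LAE CfsgLib.QT2
open scoped MatrixGroups commutatorElement

variable {G : Type*} [Group G] [Finite G] {X : Subgroup G} {t : G}

theorem mc_cyc (hX : IsPGroup 2 X) (ht : t ∈ X) (h2 : orderOf t = 2)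
    (h4 : Nat.card (X ⊓ centralizer {t} : Subgroup G) = 4) : ∃ c : G, (zpowers c).relIndex X = 2 := by
  obtain ⟨c, hc⟩ : ∃ c : X, Nat.card X = orderOf c * 2 := by
    have o : orderOf (⟨t, ht⟩ : X) = 2 := by rw [← orderOf_coe, h2]
    rcases Cfsg.Agent.S3224.result hX ⟨t, ht⟩ o (by
      rw [← h4, ← Nat.card_congr (subgroupOfEquivOfLe (inf_le_left : X ⊓ centralizer {t} ≤ X)).toEquiv]
      congr 3
      ext x
      simp [mem_centralizer_singleton_iff, mem_subgroupOf, Subtype.ext_iff]) with ⟨n, ⟨e⟩⟩ | ⟨n, -, h, x, -, ox, -⟩ | h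
    · exact ⟨e.symm (.r 1), by rw [MulEquiv.orderOf_eq, DihedralGroup.orderOf_r_one, Nat.card_congr e.toEquiv,
        DihedralGroup.nat_card, mul_comm]⟩
    · exact ⟨x, by rw [h, ox, pow_succ]⟩
    · exact ⟨_, by rw [h, o]⟩
  refine ⟨c, Nat.eq_of_mul_eq_mul_left (orderOf_pos c) ?_⟩
  rw [← hc, ← card_mul_index (zpowers c), Nat.card_zpowers, relIndex]
  congr 2
  ext x
  simp only [mem_subgroupOf, mem_zpowers_iff, Subtype.ext_iff, SubgroupClass.coe_zpow]

theorem mc_sq {D : Subgroup G} (hD : IsCyclic D) : ∃ d ∈ D, (zpowers (d * d)).relIndex D ≤ 2 := by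
  obtain ⟨d, hd⟩ := hD.exists_generator
  refine ⟨d, d.2, ?_⟩
  have h : (zpowers (d ^ 2)).index ≤ 2 := by
    have e := card_mul_index (zpowers (d ^ 2))
    rw [Nat.card_zpowers, orderOf_pow, ← orderOf_eq_card_of_forall_mem_zpowers hd] at e
    have e' := Nat.div_mul_cancel (Nat.gcd_dvd_left (orderOf d) 2)
    rw [Nat.eq_of_mul_eq_mul_left (Nat.div_pos (Nat.gcd_le_left _ (orderOf_pos d))
      (Nat.gcd_pos_of_pos_right _ two_pos)) (e.trans e'.symm)]
    exact Nat.gcd_le_right _ two_pos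
  refine le_trans (index_antitone (zpowers_le.2 ?_)) h
  rw [mem_subgroupOf, pow_two]
  exact mem_zpowers _

theorem mc_rank (hX : IsPGroup 2 X) (ht : t ∈ X) (h2 : orderOf t = 2)
    (h4 : Nat.card (X ⊓ centralizer {t} : Subgroup G) = 4) {E : Subgroup G} (hE : E ≤ X)
    (h1 : ∀ e ∈ E, e * e = 1) : Nat.card E ≤ 4 := by
  obtain ⟨c, hc⟩ := mc_cyc hX ht h2 h4
  obtain ⟨d, hd, h⟩ := mc_sq (isCyclic_of_le (inf_le_left : zpowers c ⊓ E ≤ _))
  rw [h1 d hd.2, zpowers_one_eq_bot] at h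
  rw [← relIndex_bot_left, ← relIndex_mul_relIndex ⊥ _ E bot_le (inf_le_right : zpowers c ⊓ E ≤ E),
    inf_relIndex_right]
  exact Nat.mul_le_mul h (hc ▸ relIndex_le_of_le_right hE index_ne_zero_of_finite)

theorem mc_five (hX : IsPGroup 2 X) (ht : t ∈ X) (h2 : orderOf t = 2)
    (h4 : Nat.card (X ⊓ centralizer {t} : Subgroup G) = 4) {Q : Subgroup G} (hQ : Q ≤ X) {y : G}
    (h5 : y ^ 5 = 1) (hy : y ∈ normalizer (Q : Set G)) : y ∈ centralizer (Q : Set G) := by
  have : Fact (Nat.Prime 5) := ⟨by norm_num⟩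
  obtain ⟨c, hc⟩ := mc_cyc hX ht h2 h4
  obtain ⟨d, hd, h⟩ := mc_sq (isCyclic_of_le (inf_le_left : zpowers c ⊓ Q ≤ _))
  have hS : Subgroup.closure ((fun q : G => q * q) '' Q) ≤ zpowers c ⊓ Q := (closure_le _).2 (by
    rintro _ ⟨q, hq, rfl⟩
    exact mem_inf.2 ⟨mem_subgroupOf.1 (mul_self_mem_of_index_two hc ⟨q, hQ hq⟩), mul_mem hq hq⟩)
  have hc' : y ∈ centralizer (Subgroup.closure ((fun q : G => q * q) '' Q) : Set G) := by
    refine InvHarv.mem_centralizer_of_cyclic_two (isCyclic_of_le (hS.trans inf_le_left))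
      (hX.to_le (hS.trans (inf_le_right.trans hQ))) (Tech.mem_normalizer_of_cj_le ?_)
      (Nat.Coprime.coprime_dvd_left (orderOf_dvd_of_pow_eq_one h5) (by norm_num))
    rw [map_le_iff_le_comap, closure_le]
    rintro _ ⟨q, hq, rfl⟩
    exact subset_closure ⟨y * q * y⁻¹, (mem_normalizer_iff.1 hy q).1 hq, by simp [mul_assoc]⟩
  have h6 : (centralizer (zpowers y : Set G)).relIndex Q ≤ 4 := by
    refine (relIndex_le_of_le_left (H := zpowers (d * d)) (zpowers_le.2 (le_centralizer_iff.1 (zpowers_le.2 hc')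
      (subset_closure ⟨d, hd.2, rfl⟩))) index_ne_zero_of_finite).trans ?_
    rw [← relIndex_mul_relIndex _ _ Q (zpowers_le.2 (mul_mem hd hd)) inf_le_right, inf_relIndex_right]
    exact Nat.mul_le_mul h (hc ▸ relIndex_le_of_le_right hQ index_ne_zero_of_finite)
  have h7 := Fgs.relIndex_centralizer_modEq_one (Tech.isPGroup_zpowers_of_pow (k := 1) (p := 5) h5)
    (zpowers_le.2 hy) (by
      obtain ⟨n, hn⟩ := (hX.to_le hQ).exists_card_eq
      exact fun e => absurd (this.1.dvd_of_dvd_pow (hn ▸ e)) (by norm_num))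
  rw [Nat.ModEq] at h7
  exact le_centralizer_iff.1 (relIndex_eq_one.1 (by omega)) (mem_zpowers y)

end CfsgLib.QT3
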