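import Mathlib
import Cfsg.Agent.Lib.QT3.Defs
import Cfsg.Agent.Lib.QT2.SetA
import Cfsg.Agent.Lib.QT2.F2A
import Cfsg.Agent.Lib.ZStarApp.AutSylow

/-!
Tools for the analysis of a bad involution: fusion in the normalizer of a Sylow subgroup, automorphisms.
-/

set_option autoImplicit false

namespace CfsgLib.QT3

open Cfsg Subgroup CfsgLib.LBal CfsgLib.LAE CfsgLib.QT2 CfsgLib.QT2.St
open scoped commutatorElement

variable {G : Type*} [Group G] [Finite G] {T : Sylow 2 G} {z : G} {L P H : Subgroup G}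

/-- the action of `P` on `L` -/
abbrev actOn (hP : P ≤ normalizer (L : Set G)) : P →* MulAut L := L.normalizerMonoidHom.comp (inclusion hP)

omit [Finite G] in
theorem actOn_ker (hP : P ≤ normalizer (L : Set G)) {a : P} :
    actOn hP a = 1 ↔ (a : G) ∈ centralizer (L : Set G) := by
  rw [← MonoidHom.mem_ker, ← MonoidHom.comap_ker, normalizerMonoidHom_ker]; rfl

omit [Finite G] in
theorem card_eq_act (hP : P ≤ normalizer (L : Set G)) :
    Nat.card P = Nat.card (P ⊓ centralizer (L : Set G) : Subgroup G) * Nat.card (actOn hP).range := by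
  have h1 : (actOn hP).ker = (P ⊓ centralizer (L : Set G)).subgroupOf P := by
    rw [inf_subgroupOf_left]
    exact Subgroup.ext fun a => actOn_ker hP
  rw [← (actOn hP).ker.card_mul_index, index_ker, h1, Nat.card_congr (subgroupOfEquivOfLe inf_le_left).toEquiv]

theorem burn {a b : G} (ha : (T : Subgroup G) ≤ centralizer {a}) (hb : (T : Subgroup G) ≤ centralizer {b})
    (h : IsConj a b) : ∃ d ∈ normalizer ((T : Subgroup G) : Set G), d * a * d⁻¹ = b := by
  obtain ⟨c, hc⟩ := isConj_iff.1 h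
  obtain ⟨n, hn, e⟩ := T.conj_eq_normalizer_conj_of_mem_centralizer a c⁻¹ (le_c1.1 ha)
    (by rw [inv_inv, hc]; exact le_c1.1 hb)
  exact ⟨n⁻¹, inv_mem hn, by rw [inv_inv, ← e, inv_inv, hc]⟩

omit [Finite G] in
theorem isPGroup_zpowers {y : G} (h : ∃ k, y ^ 2 ^ k = 1) : IsPGroup 2 (zpowers y) :=
  let ⟨k, hk⟩ := h
  isPGroup_iff_forall_mem.2 fun x ⟨i, hi⟩ => ⟨k, by
    rw [← hi, ← zpow_natCast, ← zpow_mul, mul_comm i, zpow_mul, zpow_natCast, hk, one_zpow]⟩

theorem mem_of_sq {d : G} (hd : d ∈ normalizer ((T : Subgroup G) : Set G)) (hH : (T : Subgroup G) ≤ H)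
    (h : d * d ∈ H) : d ∈ H := by
  obtain ⟨k, m, ⟨j, rfl⟩, e⟩ := Nat.exists_eq_two_pow_mul_odd (orderOf_pos d).ne'
  have h1 : zpowers (d ^ (2 * j + 1)) ≤ T := (isSylowIn_top T).le_of_normalizes
    (isPGroup_zpowers ⟨k, by rw [← pow_mul, mul_comm, ← e, pow_orderOf_eq_one]⟩) le_top (zpowers_le.2 (pow_mem hd _))
  have h2 := hH (h1 (mem_zpowers _))
  rwa [pow_succ, pow_mul, pow_two, mul_mem_cancel_left (pow_mem h j)] at h2

/-- Glauberman's theorem on automorphisms fixing a Sylow subgroup -/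
theorem glab {S D : Subgroup G} (hO : pPrimeCore 2 L = ⊥) (hS : IsSylowIn 2 S L) (hD : IsPGroup 2 D)
    (h1 : D ≤ normalizer (L : Set G)) (h2 : D ≤ centralizer (S : Set G)) {a b : G} (ha : a ∈ D) (hb : b ∈ D) :
    ⁅a, b⁆ ∈ centralizer (L : Set G) := by
  have h3 := ZStarApp.normalizer_le_centralizer_of_fixes_sylow hO hS.toSylow (actOn h1).range
    (by
      rintro _ ⟨d, rfl⟩ s hs
      exact (nh_fix _ s).2 (h2 d.2 s hs).symm) ⊤
    ((hD.of_surjective _ (actOn h1).rangeRestrict_surjective).to_subgroup ⊤)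
  have h4 := congrArg Subtype.val (h3 (le_normalizer (mem_top ⟨_, ⟨b, hb⟩, rfl⟩)) ⟨_, ⟨a, ha⟩, rfl⟩ (mem_top _))
  refine (actOn_ker h1 (a := ⁅(⟨a, ha⟩ : D), (⟨b, hb⟩ : D)⁆)).1 ?_
  rw [map_commutatorElement, commutatorElement_eq_one_iff_mul_comm]
  exact h4

theorem five (h5 : N5 L) (hmc : ∀ Q ≤ centralizer (L : Set G), IsPGroup 2 Q → ∀ y : G, y ^ 5 = 1 →
    y ∈ normalizer (Q : Set G) → y ∈ centralizer (Q : Set G)) (hH : H ≤ normalizer (L : Set G))
    (hc : IsCharP 2 H) (hd : 5 ∣ Nat.card H) : False := by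
  obtain ⟨y, hy, ho⟩ := exists_orderOf Nat.prime_five hd
  have y5 : y ^ 5 = 1 := ho ▸ pow_orderOf_eq_one y
  have hQ := isPGroup_pCoreOf (p := 2) H
  have hQH := pCoreOf_le (p := 2) H
  have hn := le_normalizer_pCoreOf (p := 2) H hy
  set Q := pCoreOf 2 H
  have h1 := h5 (actOn hH ⟨y, hy⟩) ((Q.subgroupOf H).map (actOn hH))
    (by rw [← map_pow, show (⟨y, hy⟩ : H) ^ 5 = 1 from Subtype.ext y5, map_one])
    (hQ.comap_subtype.map _) (map_le_normalizer_map (actOn hH) (A := ⊤)
      (by have := normal_subgroupOf_of_le (le_normalizer_pCoreOf (p := 2) H); exact le_normalizer_of_normal)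
      (mem_map_of_mem _ (mem_top _)))
  have h2 := hmc (Q ⊓ centralizer (L : Set G)) inf_le_right hQ.to_inf_left y y5
    (LAE.le_normalizer_inf (zpowers_le.2 hn) (le_normalizer_centralizer (zpowers_le.2 (hH hy))) (mem_zpowers y))
  have h3 : y ∈ centralizer (Q : Set G) := fun q hq => by
    have k1 : ⁅y, q⁆ ∈ Q ⊓ centralizer (L : Set G) := ⟨comm_mem_right hn hq,
      (actOn_ker hH (a := ⁅(⟨y, hy⟩ : H), (⟨q, hQH hq⟩ : H)⁆)).1 (by
        rw [map_commutatorElement, commutatorElement_eq_one_iff_mul_comm]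
        exact (h1 _ (mem_map_of_mem _ (mem_subgroupOf.2 hq))).symm)⟩
    have k2 : ∀ n : ℕ, y ^ n * q = ⁅y, q⁆ ^ n * q * y ^ n := fun n => by
      induction n with
      | zero => simp
      | succ n ih =>
        have c : Commute (⁅y, q⁆ ^ n) y := Commute.pow_left (h2 _ k1) n
        rw [pow_succ', mul_assoc, ih, ← mul_assoc, ← mul_assoc, ← c.eq, pow_succ ⁅y, q⁆]
        simp only [commutatorElement_def, mul_assoc, inv_mul_cancel_left]
    have k3 := k2 5
    rw [y5, one_mul, mul_one, right_eq_mul] at k3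
    exact (commutatorElement_eq_one_iff_mul_comm.1 (eq_one_of hQ Nat.prime_five (by decide) k1.1 k3)).symm
  have h4 := eq_one_of hQ Nat.prime_five (by decide) (hc ⟨hy, h3⟩) y5
  rw [h4, orderOf_one] at ho
  omega

namespace Su

variable (h : Su T z L)
include h

omit [Finite G] in
theorem Tz : (T : Subgroup G) ≤ centralizer {z} := fun t ht => mc1.2 (h.zc t ht)

omit [Finite G] in
theorem TN : (T : Subgroup G) ≤ normalizer (L : Set G) := h.Tz.trans h.nrm

omit [Finite G] in
theorem zL : z ∈ centralizer (L : Set G) := le_c1.1 h.rc.le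

omit [Finite G] in
theorem zz : z * z = 1 := mul_self_of_two h.z2

omit [Finite G] in
theorem syl : IsSylowIn 2 (T : Subgroup G) (normalizer (L : Set G)) := isSylowIn_of_le T h.TN

theorem sylL : IsSylowIn 2 ((T : Subgroup G) ⊓ L) L := h.syl.inf_of_normal le_normalizer le_rfl

theorem sylC : IsSylowIn 2 ((T : Subgroup G) ⊓ centralizer (L : Set G)) (centralizer (L : Set G)) :=
  h.syl.inf_of_normal (centralizer_le_normalizer _) (le_normalizer_centralizer le_rfl)

theorem odd (hH : (T : Subgroup G) ≤ H) : Odd (H.relIndex L) := by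
  rw [← Nat.not_even_iff_odd, even_iff_two_dvd]
  exact fun e => h.sylL.not_dvd_relIndex (e.trans (relIndex_dvd_of_le_left L (inf_le_left.trans hH)))

theorem exists_l : ∃ l, TC L l ∧ (T : Subgroup G) ≤ centralizer {l} :=
  let ⟨l, h1, h2, h3⟩ := exists_cent_invol T.isPGroup' h.TN (even_card_of_qs h.rc.2)
  ⟨l, ⟨h1, h2, h.odd h3⟩, h3⟩

/-- `z` is the only central involution of `T` centralizing `L`, and `C_T(L)` is not abelian -/
theorem key (h0 : center L = ⊥) (hZ : ∀ v ∈ (T : Subgroup G) ⊓ centralizer (L : Set G), orderOf v = 2 →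
    v ∈ centralizer ((T : Subgroup G) : Set G) → v = z)
    (hn : ¬ (T : Subgroup G) ⊓ centralizer (L : Set G) ≤
      centralizer (((T : Subgroup G) ⊓ centralizer (L : Set G) : Subgroup G) : Set G))
    {d : G} (hd : d ∈ normalizer ((T : Subgroup G) : Set G)) (hne : d * z * d⁻¹ ≠ z) : d * z * d⁻¹ ∈ L := by
  set C := (T : Subgroup G) ⊓ centralizer (L : Set G)
  have nC : (T : Subgroup G) ≤ normalizer (C : Set G) :=
    LAE.le_normalizer_inf le_normalizer (le_normalizer_centralizer h.TN)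
  have hT := mem_normalizer_iff_conjS.1 hd
  have DT : conjS d C ≤ T := hT ▸ conjS_mono inf_le_left
  have nD : (T : Subgroup G) ≤ normalizer ((conjS d C : Subgroup G) : Set G) := by
    rw [← conjS_normalizer, ← hT]; exact conjS_mono nC
  have k : ∀ {W : Subgroup G}, (T : Subgroup G) ≤ normalizer (W : Set G) → d * z * d⁻¹ ∉ W ∨ W = C →
      conjS d C ⊓ W = ⊥ := fun {W} h1 h2 => by
    by_contra e
    obtain ⟨v, hv, o, c⟩ := exists_central T.isPGroup' (inf_le_left.trans DT) (LAE.le_normalizer_inf nD h1) e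
    have h3 := hZ _ (mem_conjS.1 hv.1) (by simpa using (orderOf_conj' d⁻¹ v).trans o)
      (conj_inv_mem_of_mem_normalizer (le_normalizer_centralizer le_rfl hd) c)
    have h4 : d * z * d⁻¹ = v := by rw [← h3]; group
    rcases h2 with h2 | rfl
    exacts [h2 (h4 ▸ hv.2), hne (h4.trans (hZ v hv.2 o c))]
  by_contra e
  have h1 : conjS d C ≤ centralizer (((T : Subgroup G) ⊓ L : Subgroup G) : Set G) := fun a ha s hs =>
    (commutatorElement_eq_one_iff_mul_comm.1 (mem_bot.1 (k h.TN (.inl e) ▸ mem_inf.2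
      ⟨comm_mem_left ha (nD hs.1), comm_mem_right (h.TN (DT ha)) hs.2⟩))).symm
  have hO : pPrimeCore 2 L = ⊥ := by
    have := Comp.isSimpleGroup_of_qs_of_center_eq_bot h.rc.2 h0
    refine (Normal.eq_bot_or_eq_top (H := pPrimeCore 2 L) inferInstance).resolve_right fun e => ?_
    have h2 : Odd (Nat.card (pPrimeCore 2 L)) := Core.odd_card_oddCore L
    rw [e, card_top] at h2
    exact Nat.not_even_iff_odd.2 h2 (even_card_of_qs h.rc.2)
  refine hn fun a ha b hb => ?_
  have ha' := conj_mem_conjS (g := d).2 ha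
  have hb' := conj_mem_conjS (g := d).2 hb
  have h2 := commutator_le_left_of_le_normalizer (A := conjS d C) le_normalizer (commutator_mem_commutator hb' ha')
  have h3 := mem_bot.1 (k nC (.inr rfl) ▸ mem_inf.2 ⟨h2, mem_inf.2 ⟨DT h2,
    glab hO h.sylL (T.isPGroup'.to_le DT) (DT.trans h.TN) h1 hb' ha'⟩⟩)
  rw [commutatorElement_eq_one_iff_mul_comm, conj_mul, conj_mul] at h3
  simpa using h3

end Su

end CfsgLib.QT3
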