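import Mathlib
import Cfsg.Agent.Lib.QT3.Defs
import Cfsg.Agent.Lib.QT2.SetA
import Cfsg.Agent.Lib.QT2.Setup

/-!
Commuting conjugates.
-/

set_option autoImplicit false

namespace CfsgLib.QT3

open Cfsg Subgroup CfsgLib.LBal CfsgLib.LAE CfsgLib.QT2
open scoped MatrixGroups commutatorElement

variable {G : Type*} [Group G] [Finite G] {T : Sylow 2 G} {z : G} {L : Subgroup G}

theorem Su.conj (h : Su T z L) (g : G) : Su (g • T) (g * z * g⁻¹) (cj g L) := by
  have hT : ∀ x, x ∈ (g • T : Sylow 2 G) ↔ g⁻¹ * x * g ∈ (T : Subgroup G) := fun x =>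
    St.mem_cj (H := (T : Subgroup G))
  refine { h with
    zT := (hT _).2 (by simpa [mul_assoc] using h.zT), zc := fun t ht => St.mc1.1 ?_
    z2 := (Tech.orderOf_conj_eq g z).trans h.z2, rc := St.cj_cent1 g z ▸ h.rc.conj g, nrm := ?_ }
  · rw [← St.cj_cent1, St.mem_cj]
    exact St.mc1.2 (h.zc _ ((hT t).1 ht))
  · rw [← St.cj_cent1, ← St.cj_norm]
    exact map_mono h.nrm

theorem Su.three (h : Su T z L) {a b : G} (h1 : L ≤ centralizer (cj a L : Set G))
    (h2 : L ≤ centralizer (cj b L : Set G)) (h3 : cj a L ≤ centralizer (cj b L : Set G)) : False := by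
  have t := center_two_of_rc h.ev h.z2 h.rc
  obtain ⟨U, hU, u2, u1, x, hx, hn, hp, p2⟩ := St.exists_good h.rc.2 t
  have m : b * x * b⁻¹ ∈ cj b L := St.conj_mem_cj.2 hx
  refine St.not_two hp p2 (St.rank_one hp (St.rank_two h.qt hp p2 u2 u1 le_rfl) (X := centralizer (L : Set G))
    (fun y hy => St.cn (centralizer_le hU hy)) hn (pow_orderOf_eq_one x) (fun y hy => (hy x hx).symm) fun e => ?_)
    (center_two_of_rc h.ev (h.conj a).z2 (h.conj a).rc) (le_centralizer_iff.1 h1)
    (St.card_cj a L ▸ L.orderOf_dvd_natCard hx) (le_centralizer_iff.1 h2 m) (le_centralizer_iff.1 h3 m)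
    (Tech.orderOf_conj_eq b x)
  exact hp.ne_one (orderOf_eq_one_iff.2 (St.eq_one_of (St.center_two t) hp p2 ⟨hx, e⟩ (pow_orderOf_eq_one x)))

theorem nc_mem_of_sq {N M : Subgroup G} (hT : (T : Subgroup G) ≤ N) (hM : N ≤ M) {g : G}
    (hg : g ∈ normalizer (N : Set G)) (h2 : g * g ∈ M) : g ∈ M := by
  refine mem_of_pow_mem_of_pow_mem (a := 2) (b := N.relIndex (normalizer (N : Set G)))
    ((Nat.Prime.coprime_iff_not_dvd Nat.prime_two).2 fun e => T.not_dvd_index ?_) (pow_two g ▸ h2) (hM ?_)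
  · exact (e.trans (relIndex_dvd_index_of_le le_normalizer)).trans (index_dvd_of_le hT)
  · exact mem_subgroupOf.1 (pow_index_mem (H := N.subgroupOf (normalizer (N : Set G))) ⟨g, hg⟩)

theorem nc_cent_cj {A B : Subgroup G} (h : A ≤ centralizer (B : Set G)) (g : G) :
    cj g A ≤ centralizer (cj g B : Set G) := St.cj_cent g B ▸ map_mono h

theorem Su.nc_T_le (h : Su T z L) : (T : Subgroup G) ≤ normalizer (L : Set G) :=
  fun t ht => h.nrm (St.mc1.2 (h.zc t ht))

/-- `hF` says that 2-central involutions are never bad -/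
theorem Su.lemN (h : Su T z L) (hF : ∀ (z : G) (L : Subgroup G), Su T z L → ∀ v ∈ centralizer (L : Set G),
    orderOf v = 2 → (T : Subgroup G) ≤ centralizer {v} → RC L (centralizer {v})) {e : G}
    (he : e ∈ normalizer ((T : Subgroup G) : Set G)) (hn : e ∉ normalizer (L : Set G)) :
    (T : Subgroup G) ⊓ centralizer (L : Set G) ⊓ centralizer (cj e L : Set G) = ⊥ := by
  have k : ∀ f ∈ normalizer ((T : Subgroup G) : Set G), Su T (f * z * f⁻¹) (cj f L) := fun f hf => by
    simpa only [Sylow.smul_eq_iff_mem_normalizer.2 hf] using h.conj f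
  have h1 := k e he
  have h2 := k (e * e) (mul_mem he he)
  by_contra hW
  obtain ⟨v, hv, o, c⟩ := LBal.exists_central T.isPGroup' (inf_le_left.trans inf_le_left)
    ((le_inf ((le_inf le_normalizer fun t ht => St.norm_cent (h.nc_T_le ht)).trans
      inf_normalizer_le_normalizer_inf) fun t ht => St.norm_cent (h1.nc_T_le ht)).trans
      inf_normalizer_le_normalizer_inf) hW
  have c1 : L ≤ centralizer (cj e L : Set G) := (hF z L h v hv.1.2 o (St.le_c1.2 c)).le_centralizer
    (hF _ _ h1 v hv.2 o (St.le_c1.2 c)) fun e' => hn (St.norm_iff.2 e'.symm)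
  have c2 : cj e L ≤ centralizer (cj (e * e) L : Set G) := St.cj_mul e e L ▸ nc_cent_cj c1 e
  obtain ⟨w, hw, o', c'⟩ := St.exists_cent_invol T.isPGroup' h1.nc_T_le (even_card_of_qs h1.rc.2)
  exact h.three c1 ((hF z L h w (le_centralizer_iff.1 c1 hw) o' c').le_centralizer (hF _ _ h2 w (c2 hw) o' c')
    fun e' => hn (nc_mem_of_sq le_rfl h.nc_T_le he (St.norm_iff.2 e'.symm))) c2

theorem Su.hnc (h : Su T z L) (ht : ∀ y : G, orderOf y = 2 → y ∈ centralizer (L : Set G) → RC L (centralizer {y}))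
    (g : G) (hg : cj g L ≠ L) : ⁅L, cj g L⁆ ≠ ⊥ := by
  intro hc
  have c1 : L ≤ centralizer (cj g L : Set G) := commutator_eq_bot_iff_le_centralizer.1 hc
  have c1' := le_centralizer_iff.1 c1
  obtain ⟨y, hy, o⟩ := St.exists_orderOf Nat.prime_two (even_card_of_qs h.rc.2).two_dvd
  have m : g * y * g⁻¹ ∈ cj g L := St.conj_mem_cj.2 hy
  have r1 : RC L (centralizer (cj g L : Set G)) := (ht _ ((Tech.orderOf_conj_eq g y).trans o) (c1' m)).of_le c1
    (centralizer_le (Set.singleton_subset_iff.2 m))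
  have r2 : RC (cj g L) (centralizer (L : Set G)) := by
    have := (ht (g⁻¹ * y * g⁻¹⁻¹) ((Tech.orderOf_conj_eq g⁻¹ y).trans o) (by
      rw [inv_inv, ← St.mem_cj, St.cj_cent]; exact c1 hy)).conj g
    change RC (cj g L) (cj g _) at this
    rw [St.cj_cent1, show g * (g⁻¹ * y * g⁻¹⁻¹) * g⁻¹ = y by group] at this
    exact this.of_le c1' (centralizer_le (Set.singleton_subset_iff.2 hy))
  have r3 : ∀ n, RC (cj (n * g) L) (centralizer (cj n L : Set G)) := fun n => by
    rw [St.cj_mul, ← St.cj_cent]; exact r2.conj n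
  have hN : normalizer (L : Set G) ≤ cj g (normalizer (L : Set G)) := fun n hn => by
    rw [St.cj_norm, St.norm_iff, ← St.cj_mul]
    by_contra e
    have r := r3 n
    rw [St.norm_iff.1 hn] at r
    exact h.three c1 (le_centralizer_iff.1 r.le) (r2.le_centralizer r (Ne.symm e))
  refine hg (St.norm_iff.1 (nc_mem_of_sq h.nc_T_le le_rfl (St.norm_iff.2
    (eq_of_le_of_card_ge hN (St.card_cj g _).le).symm) (St.norm_iff.2 (by_contra fun e => ?_))))
  exact h.three c1 (r1.le_centralizer (r3 g) (Ne.symm e)) (le_centralizer_iff.1 (r3 g).le)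

end CfsgLib.QT3
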