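import Mathlib
import Cfsg.Agent.Lib.QT3.MainA
import Cfsg.Agent.Lib.QT3.MC
import Cfsg.Agent.Lib.QT3.NC

/-!
A bad involution with maximal centralizer in the Sylow subgroup.
-/

set_option autoImplicit false

namespace CfsgLib.QT3

open Cfsg Subgroup CfsgLib.LBal CfsgLib.LAE CfsgLib.QT2 CfsgLib.QT2.St
open scoped commutatorElement

variable {G : Type*} [Group G] [Finite G] {T : Sylow 2 G} {z t x : G} {L J : Subgroup G}

theorem card_le_T {S : Subgroup G} (h : IsPGroup 2 S) (T : Sylow 2 G) : Nat.card S ≤ Nat.card (T : Subgroup G) :=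
  (isSylowIn_top T).card_le h le_top

omit [Finite G] in
theorem PD.bad (h : PD z t L J) {v : G} (hv : v ∈ centralizer (J : Set G)) : ¬ RC L (centralizer {v}) :=
  fun e => h.nrc (e.of_le h.le (le_c1.2 hv))

omit [Finite G] in
theorem Su.R_le (h : Su T z L) (hp : PD z t L J) :
    (T : Subgroup G) ⊓ centralizer {t} ≤ normalizer (J : Set G) ⊓ centralizer {z} :=
  le_inf (le_trans (le_inf inf_le_right (inf_le_left.trans h.TN)) hp.norm) (inf_le_left.trans h.Tz)

theorem Su.four (h : Su T z L) (hp : PD z t L J) :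
    4 * Nat.card ((T : Subgroup G) ⊓ centralizer {t} : Subgroup G) ≤ Nat.card (T : Subgroup G) :=
  let ⟨_, h1, h2⟩ := hp.idx _ (h.R_le hp) T.isPGroup'.to_inf_left
  h2.trans (card_le_T h1 T)

structure Mx (T : Sylow 2 G) (z t x : G) (L J : Subgroup G) : Prop where
  su : Su T z L
  tT : t ∈ (T : Subgroup G)
  t2 : orderOf t = 2
  pd : PD z t L J
  max : ∀ v ∈ (T : Subgroup G), orderOf v = 2 → v ∈ centralizer (L : Set G) → ¬ RC L (centralizer {v}) →
    Nat.card ((T : Subgroup G) ⊓ centralizer {v} : Subgroup G) ≤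
      Nat.card ((T : Subgroup G) ⊓ centralizer {t} : Subgroup G)
  xT : x ∈ (T : Subgroup G)
  xN : x ∈ normalizer (((T : Subgroup G) ⊓ centralizer {t} : Subgroup G) : Set G)
  xt : x ∉ centralizer ({t} : Set G)
  xx : x * x ∈ centralizer ({t} : Set G)

/-- `C_T(L) ∩ C(t) = ⟨t, z⟩` -/
def W4 (T : Sylow 2 G) (z t : G) (L : Subgroup G) : Prop := ∀ w ∈ (T : Subgroup G), w ∈ centralizer ({t} : Set G) →
  w ∈ centralizer (L : Set G) → w = 1 ∨ w = t ∨ w = z ∨ w = t * z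

namespace Mx

variable (h : Mx T z t x L J)
include h

omit [Finite G] in
theorem tJ : t ∈ centralizer (J : Set G) := le_c1.1 h.pd.leC

omit [Finite G] in
theorem tL : t ∈ centralizer (L : Set G) := centralizer_anti h.pd.le h.tJ

omit [Finite G] in
theorem tz : t * z = z * t := h.su.zc t h.tT

omit [Finite G] in
theorem tt : t * t = 1 := mul_self_of_two h.t2

omit [Finite G] in
theorem zJ : z ∉ centralizer (J : Set G) := fun e => h.pd.bad e h.su.rc

omit [Finite G] in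
theorem tzJ : t * z ∉ centralizer (J : Set G) := fun e => h.zJ ((mul_mem_cancel_left h.tJ).1 e)

omit [Finite G] in
theorem R_le : (T : Subgroup G) ⊓ centralizer {t} ≤ centralizer {t} ⊓ normalizer (L : Set G) :=
  le_inf inf_le_right (inf_le_left.trans h.su.TN)

theorem syl : IsSylowIn 2 ((T : Subgroup G) ⊓ centralizer {t}) (centralizer {t} ⊓ normalizer (L : Set G)) := by
  refine ⟨h.R_le, T.isPGroup'.to_inf_left, fun Q hQ h1 h2 => ?_⟩
  obtain ⟨n, hn, h3⟩ := h.su.syl.exists_conj_le hQ (h2.trans inf_le_right)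
  have h4 := h.max (n * t * n⁻¹) (h3 (conj_mem_conjS.2 (h1 ⟨h.tT, mc1.2 rfl⟩))) ((orderOf_conj' n t).trans h.t2)
    (conj_mem (norm_cent hn) h.tL) fun e => h.pd.bad h.tJ (by
      have := e.conj n⁻¹
      rwa [← cj_cent1, ← cj, ← cj, cj_inv_cj, norm_iff.1 (inv_mem hn)] at this)
  refine (eq_of_le_of_card_ge h1 (le_trans ?_ h4)).symm
  rw [← card_conjS n Q]
  exact card_le_of_le (le_inf h3 (by rw [← cj_cent1]; exact conjS_mono (h2.trans inf_le_left)))

theorem r0 {c : G} (h1 : c ∈ (T : Subgroup G)) (h2 : c ∈ centralizer ({t} : Set G))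
    (h3 : c ∈ centralizer (J : Set G)) (h4 : x⁻¹ * c * x ∈ centralizer (J : Set G)) : c = 1 := by
  set R := (T : Subgroup G) ⊓ centralizer {t} with hR
  have RN : R ≤ normalizer ((centralizer (J : Set G) : Subgroup G) : Set G) :=
    le_normalizer_centralizer ((h.su.R_le h.pd).trans inf_le_left)
  have e0 : conjS x R = R := mem_normalizer_iff_conjS.1 h.xN
  have RN' : R ≤ normalizer ((conjS x (centralizer (J : Set G)) : Subgroup G) : Set G) := by
    rw [← conjS_normalizer, ← e0]; exact conjS_mono RN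
  have hx : x ∈ normalizer ((R ⊓ (centralizer (J : Set G) ⊓ conjS x (centralizer (J : Set G))) : Subgroup G) :
      Set G) := by
    rw [mem_normalizer_iff_conjS, conjS_inf, e0, conjS_inf, ← conjS_mul,
      mem_normalizer_iff_conjS.1 (RN ⟨mul_mem h.xT h.xT, h.xx⟩), inf_comm (conjS x _)]
  by_contra e
  obtain ⟨v, hv, o, hc⟩ := exists_central (S := R ⊔ zpowers x)
    (T.isPGroup'.to_le (sup_le inf_le_left (zpowers_le.2 h.xT))) (inf_le_left.trans le_sup_left)
    (sup_le (LAE.le_normalizer_inf le_normalizer (LAE.le_normalizer_inf RN RN')) (zpowers_le.2 hx))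
    fun k => e (mem_bot.1 (k ▸ mem_inf.2 ⟨mem_inf.2 ⟨h1, h2⟩, mem_inf.2 ⟨h3, mem_conjS.2 h4⟩⟩))
  have h5 : R ⊔ zpowers x ≤ (T : Subgroup G) ⊓ centralizer {v} :=
    le_inf (sup_le inf_le_left (zpowers_le.2 h.xT)) (le_c1.2 hc)
  have h6 := eq_of_le_of_card_ge (le_sup_left.trans h5)
    (h.max v hv.1.1 o (centralizer_anti h.pd.le hv.2.1) (h.pd.bad hv.2.1))
  exact h.xt (h6 ▸ h5 (mem_sup_right (mem_zpowers x)) : x ∈ R).2

omit [Finite G] in
theorem xL : x⁻¹ ∈ normalizer (L : Set G) := inv_mem (h.su.TN h.xT)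

theorem zL0 : center L = ⊥ := center_bot.2 fun c h1 h2 =>
  have h3 := h.su.sylC.le_of_normal (center_two (center_two_of_rc h.su.ev h.su.z2 h.su.rc)) inf_le_right
    (LAE.le_normalizer_inf (centralizer_le_normalizer _) le_normalizer) (mem_inf.2 ⟨h1, h2⟩)
  h.r0 h3.1 (h.pd.leC (h.pd.le h1)) (h.pd.zL ⟨h1, h2⟩) (h.pd.zL (by
    simpa using mem_inf.2 ⟨conj_mem h.xL h1, conj_mem (norm_cent h.xL) h2⟩))

theorem zJT {c : G} (h1 : c ∈ J) (h2 : c ∈ centralizer (J : Set G)) : c ∈ (T : Subgroup G) :=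
  (h.syl.le_of_normal h.pd.two (le_inf (inf_le_left.trans h.pd.leC) (inf_le_right.trans
    ((centralizer_anti h.pd.le).trans (centralizer_le_normalizer _))))
    (LAE.le_normalizer_inf h.pd.norm (le_normalizer_centralizer h.pd.norm)) (mem_inf.2 ⟨h1, h2⟩)).1

omit [Finite G] in
theorem conjW {w : G} (h1 : w ∈ (T : Subgroup G)) (h2 : w ∈ centralizer ({t} : Set G))
    (h3 : w ∈ centralizer (L : Set G)) : x⁻¹ * w * x ∈ (T : Subgroup G) ∧
      x⁻¹ * w * x ∈ centralizer ({t} : Set G) ∧ x⁻¹ * w * x ∈ centralizer (L : Set G) :=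
  have k := conj_inv_mem_of_mem_normalizer h.xN (mem_inf.2 ⟨h1, h2⟩)
  ⟨k.1, k.2, conj_inv_mem_of_mem_normalizer (norm_cent (h.su.TN h.xT)) h3⟩

theorem w4_of (hc : CenAG z L J) : W4 T z t L := by
  have k : ∀ w ∈ (T : Subgroup G), w ∈ centralizer ({t} : Set G) → w ∈ centralizer (L : Set G) →
      w ∈ centralizer (J : Set G) ∨ w * z ∈ centralizer (J : Set G) := fun w h1 h2 h3 =>
    hc w (h.su.R_le h.pd ⟨h1, h2⟩).1 (isPGroup_iff_forall_mem.1 T.isPGroup' w h1) (h.su.zc w h1) h3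
  have k1 : ∀ c ∈ (T : Subgroup G), c ∈ centralizer ({t} : Set G) → c ∈ centralizer (J : Set G) → c ≠ 1 →
      x⁻¹ * c * x * z ∈ centralizer (J : Set G) := fun c h1 h2 h3 h4 =>
    have ⟨a, b, c⟩ := h.conjW h1 h2 (centralizer_anti h.pd.le h3)
    (k _ a b c).resolve_left fun e => h4 (h.r0 h1 h2 h3 e)
  have k2 : ∀ c ∈ (T : Subgroup G), c ∈ centralizer ({t} : Set G) → c ∈ centralizer (J : Set G) →
      c = 1 ∨ c = t := fun c h1 h2 h3 => or_iff_not_imp_left.2 fun e => by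
    refine mul_inv_eq_one.1 (h.r0 (mul_mem h1 (inv_mem h.tT)) (mul_mem h2 (inv_mem (mc1.2 rfl)))
      (mul_mem h3 (inv_mem h.tJ)) ?_)
    have := mul_mem (k1 c h1 h2 h3 e) (inv_mem (k1 t h.tT (mc1.2 rfl) h.tJ (ne_one_of_two h.t2)))
    simpa [mul_assoc] using this
  intro w h1 h2 h3
  rcases k w h1 h2 h3 with e | e
  · exact (k2 w h1 h2 e).imp_right .inl
  · have z1 : z⁻¹ = z := inv_eq_of_mul_eq_one_right h.su.zz
    rcases k2 _ (mul_mem h1 h.su.zT) (mul_mem h2 (mc1.2 h.tz.symm)) e with e | e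
    · exact .inr (.inr (.inl ((mul_eq_one_iff_eq_inv.1 e).trans z1)))
    · exact .inr (.inr (.inr (by rw [← e, mul_assoc, h.su.zz, mul_one])))

theorem sq (hc : CenEG z L J) {w : G} (h1 : w ∈ (T : Subgroup G)) (h2 : w ∈ centralizer ({t} : Set G))
    (h3 : w ∈ centralizer (L : Set G)) : w * w = 1 := by
  have k : ∀ w ∈ (T : Subgroup G), w ∈ centralizer ({t} : Set G) → w ∈ centralizer (L : Set G) →
      w * w ∈ centralizer (J : Set G) := fun w h1 h2 h3 =>
    hc w (h.su.R_le h.pd ⟨h1, h2⟩).1 (isPGroup_iff_forall_mem.1 T.isPGroup' w h1) (h.su.zc w h1) h3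
  obtain ⟨a, b, c⟩ := h.conjW h1 h2 h3
  exact h.r0 (mul_mem h1 h1) (mul_mem h2 h2) (k w h1 h2 h3) (by simpa [mul_assoc] using k _ a b c)

theorem not_ord4 (hc : CenEG z L J) : ¬ Ord4 L J := fun ⟨y, h1, h2, h3, h4⟩ => by
  obtain ⟨g, -, k⟩ := (h.syl.inf_of_normal (N := J ⊓ centralizer (L : Set G))
    (inf_le_inf h.pd.leC (centralizer_le_normalizer _))
    (LAE.le_normalizer_inf h.pd.norm (le_normalizer_centralizer inf_le_right))).exists_conj_le
      (isPGroup_zpowers h2) (zpowers_le.2 ⟨h1, h3⟩)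
  have k1 := k (conj_mem_conjS.2 (mem_zpowers y))
  have k2 := h.sq hc k1.1.1 k1.1.2 k1.2.2
  rw [conj_mul, conj_eq_one_iff] at k2
  exact h4 k2

theorem z_notMem : z ∉ L := fun e => ne_one_of_two h.su.z2 (center_bot.1 h.zL0 z e h.su.zL)

/-- many involutions centralizing `L` and `t` -/
theorem big (hF : ∀ (z : G) (L : Subgroup G), Su T z L → ∀ v ∈ centralizer (L : Set G),
    orderOf v = 2 → (T : Subgroup G) ≤ centralizer {v} → RC L (centralizer {v}))
    (ha : AutG z L J) (hf : Fus1 z L) (hW : ¬ W4 T z t L) : False := by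
  obtain ⟨l, hl, h1⟩ := h.su.exists_l
  obtain ⟨d, hd, e⟩ := burn h.su.Tz (le_c1.2 (mul_mem (le_c1.1 h.su.Tz) (le_c1.1 h1))) (hf l hl)
  have h2 := h.su.lemN hF hd fun k => ne_one_of_two hl.2.1 (center_bot.1 h.zL0 l hl.1
    ((mul_mem_cancel_left h.su.zL).1 (e ▸ conj_mem (norm_cent k) h.su.zL)))
  set C := (T : Subgroup G) ⊓ centralizer (L : Set G) with hC
  set R := (T : Subgroup G) ⊓ centralizer {t} with hR
  have nC : (T : Subgroup G) ≤ normalizer (C : Set G) :=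
    LAE.le_normalizer_inf le_normalizer (le_normalizer_centralizer h.su.TN)
  have hT := mem_normalizer_iff_conjS.1 hd
  have DT : conjS d C ≤ T := hT ▸ conjS_mono inf_le_left
  have nD : (T : Subgroup G) ≤ normalizer ((conjS d C : Subgroup G) : Set G) := by
    rw [← conjS_normalizer, ← hT]; exact conjS_mono nC
  have h3 : C ⊓ conjS d C = ⊥ := eq_bot_iff.2 (h2 ▸ inf_le_inf_left _ (by
    rw [← cj_cent]; exact conjS_mono inf_le_right))
  have DR : conjS d C ≤ R := fun a ha => ⟨DT ha, mc1.2 (commutatorElement_eq_one_iff_mul_comm.1 (mem_bot.1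
    (h3 ▸ mem_inf.2 ⟨comm_mem_right (nC (DT ha)) ⟨h.tT, h.tL⟩, comm_mem_left ha (nD h.tT)⟩)))⟩
  have h4 : 8 ≤ Nat.card (R ⊓ C : Subgroup G) := by
    simp only [W4, not_forall, not_or] at hW
    obtain ⟨w, w1, w2, w3, w4, w5, w6, w7⟩ := hW
    obtain ⟨n, hn⟩ := IsPGroup.iff_card.1 (T.isPGroup'.to_le (inf_le_left.trans inf_le_left : R ⊓ C ≤ T))
    have t1 := ne_one_of_two h.t2
    have z1 := ne_one_of_two h.su.z2
    have tz : t ≠ z := fun e => h.zJ (e ▸ h.tJ)
    have tz1 : 1 ≠ t * z := fun e => h.tzJ (e ▸ one_mem _)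
    classical
    have h5 : ({w, 1, t, z, t * z} : Finset G).card ≤ Nat.card (R ⊓ C : Subgroup G) := by
      rw [← Set.ncard_coe_finset]
      refine Set.ncard_le_ncard (t := ((R ⊓ C : Subgroup G) : Set G)) ?_
      have mt : t ∈ R ⊓ C := ⟨⟨h.tT, mc1.2 rfl⟩, h.tT, h.tL⟩
      have mz : z ∈ R ⊓ C := ⟨⟨h.su.zT, mc1.2 h.tz.symm⟩, h.su.zT, h.su.zL⟩
      simp only [Finset.coe_insert, Finset.coe_singleton, Set.insert_subset_iff, Set.singleton_subset_iff]
      exact ⟨⟨⟨w1, w2⟩, w1, w3⟩, one_mem _, mt, mz, mul_mem mt mz⟩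
    rw [Finset.card_insert_of_notMem (by simp [w4, w5, w6, w7]), Finset.card_insert_of_notMem
      (by simp [t1.symm, z1.symm, tz1]), Finset.card_insert_of_notMem (by simp [tz, z1]),
      Finset.card_pair (by simp [t1]), hn] at h5
    rw [hn]
    exact Nat.pow_le_pow_right two_pos (show 3 ≤ n by
      by_contra k
      have : 2 ^ n ≤ 2 ^ 2 := Nat.pow_le_pow_right two_pos (by omega)
      omega)
  have h5 : Nat.card (R ⊓ C : Subgroup G) * Nat.card C ≤ Nat.card R := by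
    rw [← card_conjS d C, ← Nat.card_prod]
    refine Nat.card_le_card_of_injective (fun p => ⟨p.1 * p.2, mul_mem p.1.2.1 (DR p.2.2)⟩) ?_
    rintro ⟨a, b⟩ ⟨a', b'⟩ k
    have k1 : (a' : G)⁻¹ * a = b' * (b : G)⁻¹ := by
      rw [inv_mul_eq_iff_eq_mul, ← mul_assoc, eq_mul_inv_iff_mul_eq]; exact congrArg Subtype.val k
    have k2 := mem_bot.1 (h3 ▸ mem_inf.2 ⟨mul_mem (inv_mem a'.2.2) a.2.2, k1 ▸ mul_mem b'.2 (inv_mem b.2)⟩)
    exact Prod.ext (Subtype.ext (inv_mul_eq_one.1 k2).symm) (Subtype.ext (mul_inv_eq_one.1 (k1 ▸ k2)).symm)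
  obtain ⟨a, h6, h7⟩ := ha
  obtain ⟨S, h8, h9⟩ := h7 R (h.su.R_le h.pd) T.isPGroup'.to_inf_left
  have h10 := card_le_T h8 T
  have h11 := (card_eq_act h.su.TN).le.trans (Nat.mul_le_mul_left _
    (h6 _ (T.isPGroup'.of_surjective _ (actOn h.su.TN).rangeRestrict_surjective)))
  have := Nat.mul_le_mul_left a ((Nat.mul_le_mul_right _ h4).trans h5)
  rw [← hC] at h11
  nlinarith

end Mx

end CfsgLib.QT3
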