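import Mathlib
import Cfsg.Agent.Lib.QT3.MainB
import Cfsg.Agent.Lib.QT2.SpTools

/-!
The case that `C_T(L)` has maximal class.
-/

set_option autoImplicit false

namespace CfsgLib.QT3

open Cfsg Subgroup CfsgLib.LBal CfsgLib.LAE CfsgLib.QT2 CfsgLib.QT2.St
open scoped commutatorElement

variable {G : Type*} [Group G] [Finite G] {T : Sylow 2 G} {z t x : G} {L J : Subgroup G}

namespace Mx

variable (h : Mx T z t x L J) (hW : W4 T z t L)
include h hW

omit [Finite G] in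
theorem r1 {c : G} (h1 : c ∈ (T : Subgroup G)) (h2 : c ∈ centralizer ({t} : Set G))
    (h3 : c ∈ centralizer (J : Set G)) : c = 1 ∨ c = t := by
  rcases hW c h1 h2 (centralizer_anti h.pd.le h3) with e | e | e | e
  exacts [.inl e, .inr e, absurd (e ▸ h3) h.zJ, absurd (e ▸ h3) h.tzJ]

theorem zj (c : G) (h1 : c ∈ J) (h2 : c ∈ centralizer (J : Set G)) : c = 1 ∨ c = t :=
  h.r1 hW (h.zJT h1 h2) (h.pd.leC h1) h2

omit [Finite G] in
theorem conj_t {g : G} (h1 : g ∈ (T : Subgroup G)) (h2 : g * t * g⁻¹ ∈ centralizer ({t} : Set G)) :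
    g * t * g⁻¹ = t ∨ g * t * g⁻¹ = t * z := by
  rcases hW _ (mul_mem (mul_mem h1 h.tT) (inv_mem h1)) h2 (conj_mem (norm_cent (h.su.TN h1)) h.tL)
    with e | e | e | e
  · exact absurd (conj_eq_one_iff.1 e) (ne_one_of_two h.t2)
  · exact .inl e
  · rw [mul_inv_eq_iff_eq_mul, ← h.su.zc g h1, mul_left_cancel_iff] at e
    exact absurd (e ▸ h.tJ) h.zJ
  · exact .inr e

omit [Finite G] in
theorem xtx : x * t * x⁻¹ = t * z :=
  (h.conj_t hW h.xT (conj_mem h.xN ⟨h.tT, mc1.2 rfl⟩).2).resolve_left fun e =>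
    h.xt (mc1.2 (mul_inv_eq_iff_eq_mul.1 e))

omit [Finite G] in
theorem card_four :
    Nat.card ((T : Subgroup G) ⊓ centralizer (L : Set G) ⊓ centralizer {t} : Subgroup G) = 4 := by
  have t1 := ne_one_of_two h.t2
  have z1 := ne_one_of_two h.su.z2
  have tz : t ≠ z := fun e => h.zJ (e ▸ h.tJ)
  have tz1 : 1 ≠ t * z := fun e => h.tzJ (e ▸ one_mem _)
  have mt : t ∈ (T : Subgroup G) ⊓ centralizer (L : Set G) ⊓ centralizer {t} := ⟨⟨h.tT, h.tL⟩, mc1.2 rfl⟩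
  have mz : z ∈ (T : Subgroup G) ⊓ centralizer (L : Set G) ⊓ centralizer {t} :=
    ⟨⟨h.su.zT, h.su.zL⟩, mc1.2 h.tz.symm⟩
  classical
  have e : (((T : Subgroup G) ⊓ centralizer (L : Set G) ⊓ centralizer {t} : Subgroup G) : Set G) =
      ({1, t, z, t * z} : Finset G) := by
    ext w
    simp only [Finset.coe_insert, Finset.coe_singleton, Set.mem_insert_iff, Set.mem_singleton_iff]
    refine ⟨fun k => hW w k.1.1 k.2 k.1.2, ?_⟩
    rintro (rfl | rfl | rfl | rfl)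
    exacts [one_mem _, mt, mz, mul_mem mt mz]
  rw [← SetLike.coe_sort_coe, e, Nat.card_coe_set_eq, Set.ncard_coe_finset,
    Finset.card_insert_of_notMem (by simp [t1.symm, z1.symm, tz1]), Finset.card_insert_of_notMem (by simp [tz, z1]),
    Finset.card_pair (by simp [t1])]

omit [Finite G] in
theorem uniq (v : G) (h1 : v ∈ (T : Subgroup G) ⊓ centralizer (L : Set G)) (h2 : orderOf v = 2)
    (h3 : v ∈ centralizer ((T : Subgroup G) : Set G)) : v = z := by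
  rcases hW v h1.1 (mc1.2 (h3 t h.tT).symm) h1.2 with e | e | e | e
  · exact absurd e (ne_one_of_two h2)
  · exact absurd (mc1.2 (e ▸ h3 x h.xT)) h.xt
  · exact e
  · refine absurd (mc1.2 (mul_right_cancel (b := z) ?_)) h.xt
    rw [mul_assoc, mul_assoc, h.su.zc x h.xT, ← mul_assoc t, ← e, h3 x h.xT]

theorem not_le : ¬ (T : Subgroup G) ⊓ centralizer (L : Set G) ≤ centralizer {t} := fun e => by
  have k : ∀ g ∈ (T : Subgroup G), g * t * g⁻¹ = t ∨ g * t * g⁻¹ = t * z := fun g hg => h.conj_t hW hg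
    (e (mem_inf.2 ⟨mul_mem (mul_mem hg h.tT) (inv_mem hg), conj_mem (norm_cent (h.su.TN hg)) h.tL⟩))
  have z1 := ne_one_of_two h.su.z2
  have h1 : (centralizer {t}).relIndex (T : Subgroup G) = 2 := index_eq_two_iff.2 ⟨⟨x, h.xT⟩, fun b => by
    have e1 : (b : G) * x * t * ((b : G) * x)⁻¹ = b * t * (b : G)⁻¹ * z := by
      calc _ = b * (x * t * x⁻¹) * (b : G)⁻¹ := by group
        _ = _ := by rw [h.xtx hW, mul_assoc _ _ z, h.su.zc _ ((T : Subgroup G).inv_mem b.2)]; group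
    simp only [mem_subgroupOf, mc1, coe_mul, ← mul_inv_eq_iff_eq_mul, e1]
    rcases k b b.2 with e2 | e2 <;> simp [e2, z1, mul_assoc, h.su.zz]⟩
  have h2 := relIndex_mul_relIndex ⊥ ((T : Subgroup G) ⊓ centralizer {t}) T bot_le inf_le_left
  have h3 := h.su.four h.pd
  rw [relIndex_bot_left, relIndex_bot_left, inf_relIndex_left, h1] at h2
  have := Nat.card_pos (α := (T : Subgroup G))
  omega

theorem key {d : G} (hd : d ∈ normalizer ((T : Subgroup G) : Set G)) (hne : d * z * d⁻¹ ≠ z) :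
    d * z * d⁻¹ ∈ L :=
  h.su.key h.zL0 (h.uniq hW) (fun e => h.not_le hW fun _ ha => mc1.2 (e ha t ⟨h.tT, h.tL⟩).symm) hd hne

theorem not_conj {l : G} (hl : TC L l) (h1 : (T : Subgroup G) ≤ centralizer {l}) : ¬ IsConj z (z * l) := fun k => by
  obtain ⟨d, hd, e⟩ := burn h.su.Tz (le_c1.2 (mul_mem (le_c1.1 h.su.Tz) (le_c1.1 h1))) k
  have := h.key hW hd (by simpa [e] using ne_one_of_two hl.2.1)
  exact h.z_notMem ((mul_mem_cancel_right hl.1).1 (e ▸ this))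

theorem not_fus1 : ¬ Fus1 z L := fun k =>
  let ⟨l, hl, h1⟩ := h.su.exists_l
  h.not_conj hW hl h1 (k l hl)

theorem not_r5 : ¬ R5G z t L J := fun ⟨k, h5⟩ => by
  obtain ⟨l, hl, h1⟩ := h.su.exists_l
  obtain ⟨h2, h3, h4⟩ := k l hl
  obtain ⟨g, hg⟩ := isConj_iff.1 ((h2.resolve_left (h.not_conj hW hl h1)).trans
    (isConj_iff.2 ⟨x, (show x * (z * l * t) * x⁻¹ = l * t by
      calc _ = x * (z * l) * x⁻¹ * (x * t * x⁻¹) := by group
        _ = _ := by
          rw [h.xtx hW, ← mul_assoc x, h.su.zc x h.xT, mul_assoc z, mc1.1 (h1 h.xT), h.tz, ← mul_assoc z,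
            mul_inv_cancel_right, mc1.1 (h1 h.su.zT), mul_assoc, ← mul_assoc z, h.su.zz, one_mul])⟩))
  refine five h5 (fun Q q1 q2 y q3 q4 => ?_) (H := conjS g⁻¹ (J ⊓ centralizer {l})) (le_trans ?_ h.su.nrm)
    (h3.conj _) (by rwa [card_conjS])
  · obtain ⟨c, -, q5⟩ := h.su.sylC.exists_conj_le q2 q1
    have := mc_five T.isPGroup'.to_inf_left ⟨h.tT, h.tL⟩ h.t2 (h.card_four hW) q5 (y := c * y * c⁻¹)
      (by rw [conj_pow, q3, mul_one, mul_inv_cancel]) (by rwa [← conjS_normalizer, conj_mem_conjS])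
    rwa [← conjS_centralizer, conj_mem_conjS] at this
  · rw [conjS_le_iff, inv_inv, conjS_def, ← cj, cj_cent1, hg]
    exact fun a ha => mc1.2 ((Commute.mul_right (mc1.1 ha.2) (mc1.1 (h.pd.leC ha.1))).eq)

theorem not_l34 : ¬ L34G L := fun ⟨h1, h2⟩ => h1 fun A _ a2 => by
  obtain ⟨g, -, k⟩ := (isSylowIn_top T).exists_conj_le
    (isPGroup_iff_forall_mem.2 fun a ha => ⟨1, a2 a ha⟩) le_top
  have k1 : ∀ e ∈ conjS g A, e * e = 1 := fun e he => by
    obtain ⟨a, ha, rfl⟩ := exists_of_mem_conjS he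
    rw [conj_mul, ← pow_two, a2 a ha, mul_one, mul_inv_cancel]
  have k2 : ∀ φ ∈ (actOn (k.trans h.su.TN)).range, φ * φ = 1 := by
    rintro _ ⟨a, rfl⟩
    rw [← map_mul, show a * a = 1 from Subtype.ext (k1 a a.2), map_one]
  rw [← card_conjS g, card_eq_act (k.trans h.su.TN)]
  exact Nat.mul_le_mul (n₂ := 4) (mc_rank T.isPGroup'.to_inf_left ⟨h.tT, h.tL⟩ h.t2 (h.card_four hW)
    (inf_le_inf_right _ k) fun e he => k1 e he.1)
    (h2 _ ⟨⟨fun a b => Subtype.ext (comm_of_sq k2 a.2 b.2)⟩⟩ fun a ha => (pow_two a).trans (k2 a ha))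

theorem a8 {j : G} {M : Subgroup G} (jT : j ∈ (T : Subgroup G)) (jt : j ∈ centralizer ({t} : Set G))
    (h2 : centralizer {j * z} ≤ normalizer (M : Set G)) (h3 : J ≤ L ⊔ M) (h4 : ∀ c ∈ normalizer (M : Set G),
      c ∈ centralizer ((L ⊓ M : Subgroup G) : Set G) →
        c ∈ centralizer (M : Set G) ∨ c * z ∈ centralizer (M : Set G)) : IsConj (j * z) j := by
  have k1 : (T : Subgroup G) ⊓ centralizer (J : Set G) ≤ centralizer {t} := by
    obtain ⟨v, hv, o, c⟩ := exists_central (T.isPGroup'.to_inf_left (K := centralizer (J : Set G))) le_rfl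
      le_normalizer fun e => ne_one_of_two h.t2 (mem_bot.1 (e ▸ mem_inf.2 ⟨h.tT, h.tJ⟩))
    exact le_c1.2 ((h.r1 hW hv.1 (mc1.2 (c t ⟨h.tT, h.tJ⟩).symm) hv.2).resolve_left (ne_one_of_two o) ▸ c)
  have zt : z ∈ centralizer ({t} : Set G) := mc1.2 h.tz.symm
  obtain ⟨y, hy, y1, y2⟩ := Tech.exists_mem_normalizer_of_lt (p := 2) T.isPGroup'.to_inf_left
    (inf_lt_left.2 (h.not_le hW))
  have y3 : y ∉ centralizer ({t} : Set G) := fun e => y1 ⟨hy, e⟩
  rw [mem_inf] at hy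
  have yt := (h.conj_t hW hy.1 (conj_mem y2 ⟨⟨h.tT, h.tL⟩, mc1.2 rfl⟩).2).resolve_left
    fun e => y3 (mc1.2 (mul_inv_eq_iff_eq_mul.1 e))
  have fT := mul_mem jT h.su.zT
  have ft := mc1.1 (mul_mem jt zt)
  have fz := h.su.zc _ fT
  have yz := h.su.zc _ hy.1
  have ej : z * (j * z) = j := by rw [← mul_assoc, ← h.su.zc j jT, mul_assoc, h.su.zz, mul_one]
  generalize j * z = f at *
  have k2 : ¬ y * f = f * y := fun e => y3 (by
    rcases h4 y (h2 (mc1.2 e)) (centralizer_anti inf_le_left hy.2) with e | e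
    · exact k1 ⟨hy.1, centralizer_anti h3 (mem_cent_sup.2 ⟨hy.2, e⟩)⟩
    · exact (mul_mem_cancel_right zt).1 (k1 ⟨mul_mem hy.1 h.su.zT,
        centralizer_anti h3 (mem_cent_sup.2 ⟨mul_mem hy.2 h.su.zL, e⟩)⟩))
  have k3 : ∀ w ∈ (T : Subgroup G), w ∈ centralizer ({t} : Set G) → w ∈ centralizer (L : Set G) →
      w * f = f * w ∧ w * w = 1 := fun w w1 w2 w3 => by
    rcases hW w w1 w2 w3 with rfl | rfl | rfl | rfl
    exacts [by simp, ⟨ft.symm, h.tt⟩, ⟨fz.symm, h.su.zz⟩, ⟨((Commute.mul_right ft fz).eq).symm,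
      Invol.mul_mul_self_of_commute h.tt h.su.zz h.tz⟩]
  have yt' : y * t = t * z * y := mul_inv_eq_iff_eq_mul.1 yt
  have w1 : y⁻¹ * (f * y * f⁻¹) ∈ (T : Subgroup G) :=
    mul_mem (inv_mem hy.1) (mul_mem (mul_mem fT hy.1) (inv_mem fT))
  have w3 := mul_mem (inv_mem hy.2) (conj_mem (norm_cent (h.su.TN fT)) hy.2)
  have w2 : y⁻¹ * (f * y * f⁻¹) ∈ centralizer ({t} : Set G) := mc1.2 (by
    calc _ = y⁻¹ * f * (y * t) * (t⁻¹ * f⁻¹ * t) := by group
      _ = y⁻¹ * (f * t) * z * y * (f * t)⁻¹ * t := by rw [yt']; group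
      _ = y⁻¹ * t * (f * z) * y * f⁻¹ := by rw [ft]; group
      _ = y⁻¹ * (t * z * y) * (y⁻¹ * (f * y * f⁻¹)) := by rw [fz]; group
      _ = _ := by rw [← yt']; group)
  have yy := (k3 (y * y) (mul_mem hy.1 hy.1) (mc1.2 (by
    rw [mul_assoc, yt', ← mul_assoc, ← mul_assoc, yt', mul_assoc (t * z), yz, ← mul_assoc, mul_assoc t, h.su.zz,
      mul_one, mul_assoc])) (mul_mem hy.2 hy.2)).1
  have k4 : y * (y⁻¹ * (f * y * f⁻¹)) = y⁻¹ * (f * y * f⁻¹) * y := by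
    have e1 := (k3 _ w1 w2 w3).2
    have e2 : f * y * f⁻¹ * (f * y * f⁻¹) = y * y := by rw [conj_mul, ← yy, mul_inv_cancel_right]
    generalize f * y * f⁻¹ = a at e1 e2
    calc _ = y * (y⁻¹ * a * (y⁻¹ * a)) * a⁻¹ * y := by group
      _ = y⁻¹ * (y * y) * a⁻¹ * y := by rw [e1]; group
      _ = _ := by rw [← e2]; group
  rcases hW _ w1 w2 w3 with e | e | e | e
  · exact absurd (by rw [inv_mul_eq_one, eq_mul_inv_iff_mul_eq] at e; exact e) k2
  · exact absurd (mc1.2 (e ▸ k4)) y3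
  · exact isConj_iff.2 ⟨y⁻¹, by rw [← ej, ← e]; group⟩
  · rw [e, ← mul_assoc, mul_assoc t, ← yz, ← mul_assoc, mul_left_inj] at k4
    exact absurd (mc1.2 k4) y3

theorem not_a8 : ¬ A8G z L J := fun k => by
  obtain ⟨u, -, j, hj, e1, e2, ⟨g, hg⟩, e3, e4⟩ := k.dat
  have zz := h.su.zz
  have jj : j * j = 1 := by
    have : u⁻¹ * z * u * (u⁻¹ * z * u) = 1 := by
      rw [show u⁻¹ * z * u * (u⁻¹ * z * u) = u⁻¹ * (z * z) * u by group, zz]; group
    rwa [e1, mul_assoc, ← mul_assoc z, ← e2, mul_assoc, zz, mul_one] at this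
  have RH : (T : Subgroup G) ⊓ centralizer {t} ≤ centralizer {t} ⊓ centralizer {z} :=
    le_inf inf_le_right (inf_le_left.trans h.su.Tz)
  have HH := inf_le_inf_left (centralizer ({t} : Set G)) h.su.nrm
  obtain ⟨c, hc, e5⟩ := ((h.syl.mono RH HH).inf_of_normal (N := J ⊓ centralizer {z})
    (inf_le_inf_right _ h.pd.leC) (LAE.le_normalizer_inf (HH.trans h.pd.norm)
      (inf_le_right.trans le_normalizer))).exists_conj_le (isPGroup_zpowers (y := j) ⟨1, (pow_two j).trans jj⟩)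
        (zpowers_le.2 ⟨hj, mc1.2 e2⟩)
  have e6 := (e5 (conj_mem_conjS.2 (mem_zpowers j))).1
  have cL := mem_normalizer_iff_conjS.1 (h.su.nrm hc.2)
  have cz : c * z = z * c := mc1.1 hc.2
  have e7 : c * u⁻¹ * z * (c * u⁻¹)⁻¹ = c * j * c⁻¹ * z := by
    calc _ = c * (u⁻¹ * z * u) * c⁻¹ := by group
      _ = c * j * c⁻¹ * (c * z) * c⁻¹ := by rw [e1]; group
      _ = _ := by rw [cz]; group
  have e8 := h.a8 hW (M := conjS c (cj u⁻¹ L)) e6.1 e6.2 (by
      have := (h.su.conj (c * u⁻¹)).nrm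
      rwa [e7, cj_mul] at this)
    (by rw [← conjS_eq_of_mem hc.1, ← cL, ← conjS_sup, cL]; exact conjS_mono e3) fun a a1 a2 => by
      rw [← conjS_normalizer, mem_conjS] at a1
      rw [← cL, ← conjS_inf, ← conjS_centralizer, mem_conjS, cL] at a2
      rw [← conjS_centralizer, mem_conjS, mem_conjS, mul_assoc _ (a * z), mul_assoc a, ← cz, ← mul_assoc a,
        ← mul_assoc, ← mul_assoc]
      exact e4 _ a1 a2
  have e9 : IsConj z (g * j * g⁻¹) := ((isConj_iff.2 ⟨_, e7⟩).trans e8).trans (isConj_iff.2 ⟨g * c⁻¹, by group⟩)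
  obtain ⟨l, hl, h1⟩ := h.su.exists_l
  obtain ⟨d, hd, e⟩ := burn h.su.Tz h1 (e9.trans (k.conj _ hg l hl.1 (by
    obtain ⟨a, ha⟩ := isConj_iff.1 e9
    rw [← ha, orderOf_conj', h.su.z2]) hl.2.1))
  have n1 : d * z * d⁻¹ ≠ z := fun k => h.z_notMem (k ▸ e ▸ hl.1)
  have n2 : d * d * z * (d * d)⁻¹ ≠ z := fun k => n1 (mul_inv_eq_iff_eq_mul.2 (mc1.1
    (mem_of_sq hd h.su.Tz (mc1.2 (mul_inv_eq_iff_eq_mul.1 k)))))
  have n3 := k.uniq _ (h.key hW (mul_mem hd hd) n2) l hl.1 ((orderOf_conj' _ z).trans h.su.z2) hl.2.1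
    (h.su.odd (le_inf (le_c1.2 (conj_mem (norm_cent (mul_mem hd hd)) (le_c1.1 h.su.Tz))) h1))
  refine n1 (mul_left_cancel (a := d) (mul_right_cancel (b := d⁻¹) ?_))
  exact Eq.trans (by group) (n3.trans e.symm)

end Mx

theorem Mx.false (h : Mx T z t x L J) (hF : ∀ (z : G) (L : Subgroup G), Su T z L → ∀ v ∈ centralizer (L : Set G),
    orderOf v = 2 → (T : Subgroup G) ≤ centralizer {v} → RC L (centralizer {v})) : False := by
  rcases h.pd.alt h.zL0 with ⟨h1, h2⟩ | ⟨h1, h2, h3 | h3⟩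
  · have hW := h.w4_of h1
    rcases h2 (h.zj hW) with k | k | k | k
    exacts [h.not_fus1 hW k, h.not_r5 hW k, h.not_l34 hW k, h.not_a8 hW k]
  · exact h.big hF h2 h3 fun hW => h.not_fus1 hW h3
  · exact h.not_ord4 h1 h3

end CfsgLib.QT3
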